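import Cfsg.Agent.IndexFourCentre.Local
import Mathlib.GroupTheory.Focal

/-!
# The decomposition of the Sylow subgroup

In a perfect group the Sylow subgroup is the product of a dihedral group of order eight and a
central subgroup, both strongly closed.
-/

set_option autoImplicit false
set_option linter.style.haveILetI false
set_option linter.unusedSectionVars false

open Subgroup

namespace CfsgLib.IndexFourCentre

universe u

variable {G : Type u} [Group G] [Finite G] {P : Sylow 2 G} {c d : G}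

/-- A perfect group's Sylow subgroup lies in whatever receives all fusion quotients. -/
theorem le_of_fusion (P : Sylow 2 G) (hperf : commutator G = ⊤) (R : Subgroup G)
    (h : ∀ x ∈ (P : Subgroup G), ∀ g : G, g * x * g⁻¹ ∈ (P : Subgroup G) →
      x⁻¹ * (g * x * g⁻¹) ∈ R) : (P : Subgroup G) ≤ R := by
  haveI : Fact (Nat.Prime 2) := ⟨Nat.prime_two⟩
  have h0 := Subgroup.commutator_inf_eq_focalSubgroup P
  rw [hperf, top_inf_eq] at h0
  intro y hy
  rw [h0, Subgroup.focalSubgroup_def] at hy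
  refine (Subgroup.closure_le R).2 ?_ hy
  rintro _ ⟨hg, x, hx, u, rfl⟩
  rw [commutatorElement_def] at hg ⊢
  have hmem : u * x⁻¹ * u⁻¹ ∈ (P : Subgroup G) := by
    have := mul_mem (inv_mem hx) hg
    simpa [mul_assoc] using this
  simpa [mul_assoc] using h x⁻¹ (inv_mem hx) u hmem

namespace Ctx

variable (k : Ctx P c d)
include k

theorem transfer {e : G} (he : e ∈ (P : Subgroup G)) (hec : IsConj c e) (hne : e ≠ c) :
    Ctx P c e :=
  ⟨k.hyp, k.c_mem, k.c_sq, k.c_ne, k.comm, he, hne, hec⟩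

/-- A second coset with conjugates of `c`. -/
theorem exists_second (hperf : commutator G = ⊤) :
    ∃ e ∈ (P : Subgroup G), IsConj c e ∧ e ≠ c ∧ e ∉ acen (P : Subgroup G) d := by
  by_contra hno
  push Not at hno
  set A := acen (P : Subgroup G) d
  have hle : (P : Subgroup G) ≤ A := by
    refine le_of_fusion P hperf A fun x hx g hgx => ?_
    refine k.fusion_induction (fun x y => x⁻¹ * y ∈ A) (fun x y z h1 h2 => ?_)
      (fun n hn x hx => cen_le_acen k.d_mem (k.coset_fixed hn hx)) ?_ hx hgx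
    · simpa [mul_assoc] using mul_mem h1 h2
    intro a ha hac m hm x hx
    by_cases hA : acen (P : Subgroup G) a = A
    · exact mul_mem (inv_mem (hA ▸ hx)) (hA ▸ mem_normalizer_iff_conj.1 hm x hx)
    obtain ⟨n, hn, hmn⟩ := k.normalizer_acen_of_no ha hac (fun e he hce => by
      by_contra hne
      have hec := k.not_cen hce hne
      exact hA ((acen_eq k.hyp ha he hac hec).symm.trans
        (acen_eq k.hyp k.d_mem (hno e he.1 hce hne) k.d_not_cen hec))) hm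
    rw [hmn x hx]
    exact cen_le_acen k.d_mem (k.coset_fixed hn hx.1)
  obtain ⟨u, hu, hud⟩ := exists_other k.hyp k.d_mem k.d_not_cen
  exact hud (mem_acen.1 (hle hu)).2

/-- The decomposition. -/
theorem split (hperf : commutator G = ⊤) : ∃ D E : Subgroup G, ∃ e : G,
    Cfsg.IsStronglyClosed D (P : Subgroup G) ∧ Cfsg.IsStronglyClosed E (P : Subgroup G) ∧
    E ≤ cen (P : Subgroup G) ∧ D ⊓ E = ⊥ ∧ D ⊔ E = (P : Subgroup G) ∧ c ∈ D ∧ d ∈ D ∧ e ∈ D ∧
    IsConj c e ∧ d * e ≠ e * d ∧ ∀ x ∈ D, x ∈ cen (P : Subgroup G) → x = 1 ∨ x = c := by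
  obtain ⟨e, heP, hce, hne, heA⟩ := k.exists_second hperf
  have k₂ := k.transfer heP hce hne
  set P0 := (P : Subgroup G) with hP0
  obtain ⟨⟨t₁, C₁⟩, hC₁, hs₁, hi₁, hv₁, hf₁, hW₁, hg₁⟩ := k.exists_rotation
  obtain ⟨⟨t₂, C₂⟩, hC₂, hs₂, hi₂, hv₂, hf₂, hW₂, hg₂⟩ := k₂.exists_rotation
  have hdd := conj_sq_one k.c_sq k.d_conj
  have hee := conj_sq_one k.c_sq hce
  have m₁ : ∀ {x : G}, x ∈ quad c d ↔ x = 1 ∨ x = c ∨ x = d ∨ x = c * d :=
    mem_quad k.c_sq hdd (k.c_comm k.d_mem)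
  have m₂ : ∀ {x : G}, x ∈ quad c e ↔ x = 1 ∨ x = c ∨ x = e ∨ x = c * e :=
    mem_quad k.c_sq hee (k.c_comm heP)
  have hec := k₂.d_not_cen
  have hdc := k.d_not_cen
  have W₁A : quad c d ≤ acen P0 d := by
    intro x hx
    rcases m₁.1 hx with rfl | rfl | rfl | rfl
    exacts [one_mem _, cen_le_acen k.d_mem k.c_mem, mem_acen.2 ⟨k.d_mem, rfl⟩,
      mul_mem (cen_le_acen k.d_mem k.c_mem) (mem_acen.2 ⟨k.d_mem, rfl⟩)]
  have W₂A : quad c e ≤ acen P0 e := by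
    intro x hx
    rcases m₂.1 hx with rfl | rfl | rfl | rfl
    exacts [one_mem _, cen_le_acen heP k.c_mem, mem_acen.2 ⟨heP, rfl⟩,
      mul_mem (cen_le_acen heP k.c_mem) (mem_acen.2 ⟨heP, rfl⟩)]
  have hne12 : acen P0 e ≠ acen P0 d := fun h => heA (h ▸ mem_acen.2 ⟨heP, rfl⟩)
  set D := quad c d ⊔ quad c e with hDdef
  have hnorm : quad c d ≤ Subgroup.normalizer (quad c e : Set G) := fun x hx =>
    mem_normalizer_iff_conj.2 (hW₂ x (k₂.P_le_normalizer heP hec (W₁A hx).1))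
  have hD : ∀ x ∈ D, ∃ v ∈ quad c d, ∃ w ∈ quad c e, x = v * w := by
    intro x hx
    rw [← SetLike.mem_coe, hDdef, Subgroup.coe_mul_of_left_le_normalizer_right _ _ hnorm] at hx
    obtain ⟨v, hv, w, hw, he⟩ := hx
    exact ⟨v, hv, w, hw, he.symm⟩
  have hcD : c ∈ D := Subgroup.mem_sup_left (m₁.2 (Or.inr (Or.inl rfl)))
  have hDP : D ≤ P0 := sup_le (fun x hx => (W₁A hx).1) fun x hx => (W₂A hx).1
  -- the elements of `W₂` in `acen P d`, and symmetrically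
  have hcross : ∀ w ∈ quad c e, w ∈ acen P0 d → w = 1 ∨ w = c := by
    intro w hw hwA
    by_cases hwc : w ∈ cen P0
    · rcases m₂.1 hw with rfl | rfl | rfl | rfl
      · exact Or.inl rfl
      · exact Or.inr rfl
      · exact absurd hwc hec
      · exact absurd (by simpa using mul_mem (inv_mem k.c_mem) hwc) hec
    · exact absurd ((acen_eq k.hyp heP (W₂A hw) hec hwc).symm.trans
        (acen_eq k.hyp k.d_mem hwA hdc hwc)) hne12
  have hDcen : ∀ x ∈ D, x ∈ cen P0 → x = 1 ∨ x = c := by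
    intro x hx hxc
    obtain ⟨v, hv, w, hw, rfl⟩ := hD x hx
    have hwA : w ∈ acen P0 d := by
      simpa using mul_mem (inv_mem (W₁A hv)) (cen_le_acen k.d_mem hxc)
    rcases hcross w hw hwA with rfl | rfl
    · rw [mul_one] at hxc ⊢
      rcases m₁.1 hv with rfl | rfl | rfl | rfl
      · exact Or.inl rfl
      · exact Or.inr rfl
      · exact absurd hxc hdc
      · exact absurd (by simpa using mul_mem (inv_mem k.c_mem) hxc) hdc
    · have hvc : v ∈ cen P0 := by simpa using mul_mem hxc (inv_mem k.c_mem)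
      rcases m₁.1 hv with rfl | rfl | rfl | rfl
      · exact Or.inr (one_mul _)
      · exact Or.inl k.c_sq
      · exact absurd hvc hdc
      · exact absurd (by simpa using mul_mem (inv_mem k.c_mem) hvc) hdc
  set E := C₁ ⊓ C₂ with hE
  have hEcen : E ≤ cen P0 := inf_le_left.trans hC₁
  -- decomposition of the centre
  have hzsplit : ∀ (W C : Subgroup G) (a : G), a ∈ P0 → C ≤ cen P0 →
      (∀ y ∈ acen P0 a, ∃ w ∈ W, ∃ r ∈ C, y = w * r) →
      (∀ w ∈ W, w ∈ cen P0 → w = 1 ∨ w = c) →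
      ∀ z ∈ cen P0, ∃ r ∈ C, z = r ∨ z = c * r := by
    intro W C a ha hC hs hW z hz
    obtain ⟨w, hw, r, hr, rfl⟩ := hs z (cen_le_acen ha hz)
    have hwc : w ∈ cen P0 := by simpa using mul_mem hz (inv_mem (hC hr))
    rcases hW w hw hwc with rfl | rfl
    · exact ⟨r, hr, Or.inl (one_mul _)⟩
    · exact ⟨r, hr, Or.inr rfl⟩
  have hz₁ := hzsplit _ _ d k.d_mem hC₁ hs₁ fun w hw => hDcen w (Subgroup.mem_sup_left hw)
  have hz₂ := hzsplit _ _ e heP hC₂ hs₂ fun w hw => hDcen w (Subgroup.mem_sup_right hw)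
  have hzN : ∀ n ∈ Subgroup.normalizer (P0 : Set G), ∀ z ∈ cen P0,
      z⁻¹ * (n * z * n⁻¹) ∈ E := by
    intro n hn z hz
    have hn1 := k.normalizer_le_acen hn k.d_mem hdc
    have hn2 := k.normalizer_le_acen hn heP hec
    have step : ∀ (C : Subgroup G), (∃ r ∈ C, z = r ∨ z = c * r) →
        (∀ r ∈ C, n * r * n⁻¹ ∈ C) → z⁻¹ * (n * z * n⁻¹) ∈ C := by
      rintro C ⟨r, hr, rfl | rfl⟩ hC
      · exact mul_mem (inv_mem hr) (hC _ hr)
      · rw [← conj_mul, k.normalizer_fix hn]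
        have := mul_mem (inv_mem hr) (hC _ hr)
        simpa [mul_assoc] using this
    exact ⟨step C₁ (hz₁ z hz) (hv₁ n hn1), step C₂ (hz₂ z hz) (hv₂ n hn2)⟩
  have hDN : ∀ n ∈ Subgroup.normalizer (P0 : Set G), ∀ x ∈ D, n * x * n⁻¹ ∈ D := by
    intro n hn x hx
    obtain ⟨v, hv, w, hw, rfl⟩ := hD x hx
    rw [← conj_mul]
    exact mul_mem (Subgroup.mem_sup_left (hW₁ n (k.normalizer_le_acen hn k.d_mem hdc) v hv))
      (Subgroup.mem_sup_right (hW₂ n (k.normalizer_le_acen hn heP hec) w hw))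
  have hDE : ∀ x ∈ D, ∀ r ∈ E, x * r = r * x := fun x hx r hr =>
    ((mem_cen.1 (hEcen hr)).2 x (hDP hx)).symm
  -- every element is in `D * cen`
  have hDcen_gen : ∀ x ∈ P0, ∃ δ ∈ D, ∃ z ∈ cen P0, x = δ * z := by
    intro x hx
    have hdD : d ∈ D := Subgroup.mem_sup_left (m₁.2 (Or.inr (Or.inr (Or.inl rfl))))
    have heD : e ∈ D := Subgroup.mem_sup_right (m₂.2 (Or.inr (Or.inr (Or.inl rfl))))
    by_cases hxc : x ∈ cen P0
    · exact ⟨1, one_mem _, x, hxc, (one_mul x).symm⟩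
    have hde : d⁻¹ * e ∉ cen P0 := fun h =>
      heA ((mem_acen_iff k.hyp k.d_mem hdc).2 ⟨heP, Or.inr h⟩)
    rcases three k.hyp k.d_mem heP hx hdc hec hde hxc with h | h | h
    · exact ⟨d, hdD, _, h, (mul_inv_cancel_left _ _).symm⟩
    · exact ⟨e, heD, _, h, (mul_inv_cancel_left _ _).symm⟩
    · exact ⟨d * e, mul_mem hdD heD, _, h, (mul_inv_cancel_left _ _).symm⟩
  -- the normalizers
  have hpowfix : ∀ (t : G) (C : Subgroup G), (∀ r ∈ C, t * r * t⁻¹ = r) → ∀ i : ℕ, ∀ r ∈ C,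
      t ^ i * r * (t ^ i)⁻¹ = r := by
    intro t C ht i r hr
    induction i with
    | zero => simp
    | succ i ih =>
      rw [show t ^ (i + 1) * r * (t ^ (i + 1))⁻¹ = t ^ i * (t * r * t⁻¹) * (t ^ i)⁻¹ by
        rw [pow_succ]; group, ht r hr, ih]
  have hno : ∀ a ∈ P0, a ∉ cen P0 → acen P0 a ≠ acen P0 d → acen P0 a ≠ acen P0 e →
      ∀ x ∈ acen P0 a, IsConj c x → x = c := by
    intro a ha hac h1 h2 x hx hcx
    by_contra hxne
    have hxc := k.not_cen hcx hxne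
    have hxA := (acen_eq k.hyp ha hx hac hxc).symm
    refine k.no_three k.d_mem heP hx.1 k.d_conj hce hcx hdc hec hxc ?_ ?_ ?_
    · exact fun h => heA ((mem_acen_iff k.hyp k.d_mem hdc).2 ⟨heP, Or.inr h⟩)
    · exact fun h => h1 (hxA.trans (acen_eq k.hyp k.d_mem
        ((mem_acen_iff k.hyp k.d_mem hdc).2 ⟨hx.1, Or.inr h⟩) hdc hxc))
    · exact fun h => h2 (hxA.trans (acen_eq k.hyp heP
        ((mem_acen_iff k.hyp heP hec).2 ⟨hx.1, Or.inr h⟩) hec hxc))
  have hR : ∀ x ∈ P0, ∀ g : G, g * x * g⁻¹ ∈ P0 → x⁻¹ * (g * x * g⁻¹) ∈ D ⊔ E := by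
    intro x hx g hgx
    refine k.fusion_induction (fun x y => x⁻¹ * y ∈ D ⊔ E) (fun x y z h1 h2 => ?_) ?_ ?_ hx hgx
    · simpa [mul_assoc] using mul_mem h1 h2
    · intro n hn x hx
      obtain ⟨δ, hδ, z, hz, rfl⟩ := hDcen_gen x hx
      have hm : δ⁻¹ * (n * δ * n⁻¹) ∈ D := mul_mem (inv_mem hδ) (hDN n hn δ hδ)
      have hcm := (mem_cen.1 (inv_mem hz)).2 _ (hDP hm)
      have e1 : (δ * z)⁻¹ * (n * (δ * z) * n⁻¹) =
          (δ⁻¹ * (n * δ * n⁻¹)) * (z⁻¹ * (n * z * n⁻¹)) := by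
        calc _ = (z⁻¹ * (δ⁻¹ * (n * δ * n⁻¹))) * (n * z * n⁻¹) := by group
          _ = _ := by rw [hcm]; group
      rw [e1]
      exact mul_mem (Subgroup.mem_sup_left hm) (Subgroup.mem_sup_right (hzN n hn z hz))
    · intro a ha hac m hm x hx
      have key : ∀ (b t : G) (C W : Subgroup G), b ∈ P0 → C ≤ cen P0 →
          acen P0 a = acen P0 b → W ≤ acen P0 b → W ≤ D →
          (∀ y ∈ acen P0 b, ∃ w ∈ W, ∃ r ∈ C, y = w * r) →
          (∀ w ∈ W, m * w * m⁻¹ ∈ W) → (∀ r ∈ C, t * r * t⁻¹ = r) →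
          (∀ n ∈ Subgroup.normalizer (P0 : Set G), ∀ r ∈ C, n * r * n⁻¹ ∈ C) →
          (∃ i : ℕ, ∃ n ∈ Subgroup.normalizer (P0 : Set G), ∀ y ∈ acen P0 b,
            m * y * m⁻¹ = t ^ i * (n * y * n⁻¹) * (t ^ i)⁻¹) →
          x⁻¹ * (m * x * m⁻¹) ∈ D ⊔ E := by
        intro b t C W hb hC hab hWA hWD hs hW ht hCn hg
        obtain ⟨w, hw, r, hr, rfl⟩ := hs x (hab ▸ hx)
        obtain ⟨i, n, hn, hmy⟩ := hg
        have hmr : m * r * m⁻¹ = n * r * n⁻¹ := by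
          rw [hmy r (cen_le_acen hb (hC hr)), hpowfix t C ht i _ (hCn n hn r hr)]
        have hm1 : w⁻¹ * (m * w * m⁻¹) ∈ W := mul_mem (inv_mem hw) (hW w hw)
        have hcm := (mem_cen.1 (inv_mem (hC hr))).2 _ (hDP (hWD hm1))
        have e1 : (w * r)⁻¹ * (m * (w * r) * m⁻¹) =
            (w⁻¹ * (m * w * m⁻¹)) * (r⁻¹ * (m * r * m⁻¹)) := by
          calc _ = (r⁻¹ * (w⁻¹ * (m * w * m⁻¹))) * (m * r * m⁻¹) := by group
            _ = _ := by rw [hcm]; group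
        rw [e1, hmr]
        exact mul_mem (Subgroup.mem_sup_left (hWD hm1))
          (Subgroup.mem_sup_right (hzN n hn r (hC hr)))
      by_cases h1 : acen P0 a = acen P0 d
      · exact key d t₁ C₁ _ k.d_mem hC₁ h1 W₁A le_sup_left hs₁ (hW₁ m (h1 ▸ hm)) hf₁
          (fun n hn => hv₁ n (k.normalizer_le_acen hn k.d_mem hdc)) (hg₁ m (h1 ▸ hm))
      by_cases h2 : acen P0 a = acen P0 e
      · exact key e t₂ C₂ _ heP hC₂ h2 W₂A le_sup_right hs₂ (hW₂ m (h2 ▸ hm)) hf₂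
          (fun n hn => hv₂ n (k.normalizer_le_acen hn heP hec)) (hg₂ m (h2 ▸ hm))
      obtain ⟨n, hn, hmn⟩ := k.normalizer_acen_of_no ha hac (hno a ha hac h1 h2) hm
      rw [hmn x hx]
      obtain ⟨δ, hδ, z, hz, rfl⟩ := hDcen_gen x hx.1
      have hmem : δ⁻¹ * (n * δ * n⁻¹) ∈ D := mul_mem (inv_mem hδ) (hDN n hn δ hδ)
      have hcm := (mem_cen.1 (inv_mem hz)).2 _ (hDP hmem)
      have e1 : (δ * z)⁻¹ * (n * (δ * z) * n⁻¹) =
          (δ⁻¹ * (n * δ * n⁻¹)) * (z⁻¹ * (n * z * n⁻¹)) := by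
        calc _ = (z⁻¹ * (δ⁻¹ * (n * δ * n⁻¹))) * (n * z * n⁻¹) := by group
          _ = _ := by rw [hcm]; group
      rw [e1]
      exact mul_mem (Subgroup.mem_sup_left hmem) (Subgroup.mem_sup_right (hzN n hn z hz))
  have hPDE : P0 ≤ D ⊔ E := le_of_fusion P hperf _ hR
  have hsupDE : ∀ x ∈ D ⊔ E, ∃ δ ∈ D, ∃ r ∈ E, x = δ * r := by
    intro x hx
    have hEn : E ≤ Subgroup.normalizer (D : Set G) := fun r hr =>
      mem_normalizer_iff_conj.2 fun y hy => by rw [← hDE y hy r hr, mul_inv_cancel_right]; exact hy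
    rw [sup_comm, ← SetLike.mem_coe, Subgroup.coe_mul_of_left_le_normalizer_right _ _ hEn] at hx
    obtain ⟨r, hr, δ, hδ, he⟩ := hx
    exact ⟨δ, hδ, r, hr, by rw [hDE δ hδ r hr]; exact he.symm⟩
  -- both complements coincide
  have hCE : ∀ (C W : Subgroup G), C ≤ cen P0 → E ≤ C → (∀ x ∈ C, x ∈ W → x = 1) → c ∈ W →
      C ≤ E := by
    intro C W hC hEC hi hcW x hx
    obtain ⟨δ, hδ, r, hr, rfl⟩ := hsupDE x (hPDE (hC hx).1)
    have hδC : δ ∈ C := by simpa using mul_mem hx (inv_mem (hEC hr))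
    rcases hDcen δ hδ (hC hδC) with rfl | rfl
    · simpa using hr
    · exact absurd (hi _ hδC hcW) k.c_ne
  have hE₁ : E = C₁ := le_antisymm inf_le_left
    (hCE C₁ _ hC₁ inf_le_left hi₁ (m₁.2 (Or.inr (Or.inl rfl))))
  have hE₂ : E = C₂ := le_antisymm inf_le_right
    (hCE C₂ _ hC₂ inf_le_right hi₂ (m₂.2 (Or.inr (Or.inl rfl))))
  have hEn : ∀ n ∈ Subgroup.normalizer (P0 : Set G), ∀ r ∈ E, n * r * n⁻¹ ∈ E := by
    rw [hE₁]; exact fun n hn => hv₁ n (k.normalizer_le_acen hn k.d_mem hdc)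
  have hscE : Cfsg.IsStronglyClosed E P0 := by
    refine k.stronglyClosed (hEcen.trans (cen_le _)) hEn fun a ha hac m hm x hx hxE => ?_
    by_cases h1 : acen P0 a = acen P0 d
    · rw [hE₁] at hxE ⊢; exact hv₁ m (h1 ▸ hm) x hxE
    by_cases h2 : acen P0 a = acen P0 e
    · rw [hE₂] at hxE ⊢; exact hv₂ m (h2 ▸ hm) x hxE
    obtain ⟨n, hn, hmn⟩ := k.normalizer_acen_of_no ha hac (hno a ha hac h1 h2) hm
    rw [hmn x hx]; exact hEn n hn x hxE
  have hscD : Cfsg.IsStronglyClosed D P0 := by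
    refine k.stronglyClosed hDP hDN fun a ha hac m hm x hx hxD => ?_
    have hsub : ∀ y ∈ D, y ∈ acen P0 d → y ∈ quad c d := by
      intro y hy hyA
      obtain ⟨v, hv, w, hw, rfl⟩ := hD y hy
      rcases hcross w hw (by simpa using mul_mem (inv_mem (W₁A hv)) hyA) with rfl | rfl
      · simpa using hv
      · exact mul_mem hv (m₁.2 (Or.inr (Or.inl rfl)))
    by_cases h1 : acen P0 a = acen P0 d
    · exact Subgroup.mem_sup_left (hW₁ m (h1 ▸ hm) x (hsub x hxD (h1 ▸ hx)))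
    by_cases h2 : acen P0 a = acen P0 e
    · refine Subgroup.mem_sup_right (hW₂ m (h2 ▸ hm) x ?_)
      obtain ⟨v, hv, w, hw, rfl⟩ := hD x hxD
      have hh : v * w ∈ acen P0 e := h2 ▸ hx
      have hvA : v ∈ acen P0 e := by simpa using mul_mem hh (inv_mem (W₂A hw))
      by_cases hvc : v ∈ cen P0
      · rcases hDcen v (Subgroup.mem_sup_left hv) hvc with rfl | rfl
        · simpa using hw
        · exact mul_mem (m₂.2 (Or.inr (Or.inl rfl))) hw
      · exact absurd ((acen_eq k.hyp heP hvA hec hvc).symm.trans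
          (acen_eq k.hyp k.d_mem (W₁A hv) hdc hvc)) hne12
    obtain ⟨n, hn, hmn⟩ := k.normalizer_acen_of_no ha hac (hno a ha hac h1 h2) hm
    rw [hmn x hx]; exact hDN n hn x hxD
  refine ⟨D, E, e, hscD, hscE, hEcen, ?_, le_antisymm (sup_le hDP (hEcen.trans (cen_le _))) hPDE,
    hcD, Subgroup.mem_sup_left (m₁.2 (Or.inr (Or.inr (Or.inl rfl)))),
    Subgroup.mem_sup_right (m₂.2 (Or.inr (Or.inr (Or.inl rfl)))), hce,
    fun h => heA (mem_acen.2 ⟨heP, h.symm⟩), hDcen⟩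
  refine eq_bot_iff.2 fun x hx => Subgroup.mem_bot.2 ?_
  rcases hDcen x hx.1 (hEcen hx.2) with rfl | rfl
  · rfl
  · exact absurd (hi₁ _ hx.2.1 (m₁.2 (Or.inr (Or.inl rfl)))) k.c_ne

end Ctx

end CfsgLib.IndexFourCentre
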