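import Cfsg.Agent.IndexFourCentre.TwoGroup
import Cfsg.Agent.ProductFusion.Central

/-!
# Fusion in a Sylow 2-subgroup with centre of index four, the commutator not isolated

Conjugation between elements of `P` is composed of elements of `N(P)` and of `N(acen P a)`.
-/

set_option autoImplicit false
set_option linter.style.haveILetI false
set_option linter.unusedSectionVars false

open Subgroup

namespace CfsgLib.IndexFourCentre

universe u

variable {G : Type u} [Group G] [Finite G] {P : Sylow 2 G} {c d : G}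

/-- The commutator `c` and a conjugate `d ≠ c` of it inside `P`. -/
structure Ctx (P : Sylow 2 G) (c d : G) : Prop where
  hyp : Hyp (P : Subgroup G)
  c_mem : c ∈ cen (P : Subgroup G)
  c_sq : c * c = 1
  c_ne : c ≠ 1
  comm : ∀ x ∈ (P : Subgroup G), ∀ y ∈ (P : Subgroup G), x * y ≠ y * x → x * y * x⁻¹ * y⁻¹ = c
  d_mem : d ∈ (P : Subgroup G)
  d_ne : d ≠ c
  d_conj : IsConj c d

theorem exists_conj_into_of_le (P : Sylow 2 G) {L T : Subgroup G} (hPL : (P : Subgroup G) ≤ L)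
    (hTL : T ≤ L) (hT : IsPGroup 2 T) : ∃ l ∈ L, ∀ t ∈ T, l * t * l⁻¹ ∈ (P : Subgroup G) := by
  obtain ⟨g, hg⟩ := ProductFusion.exists_conj_into (P.subtype hPL)
    (hT.comap_of_injective L.subtype L.subtype_injective)
  refine ⟨g, g.2, fun t ht => ?_⟩
  exact hg ⟨t, hTL ht⟩ ht

theorem conj_sq_one {c e : G} (hc : c * c = 1) (he : IsConj c e) : e * e = 1 := by
  obtain ⟨g, rfl⟩ := isConj_iff.1 he
  rw [conj_mul, hc, mul_one, mul_inv_cancel]

theorem mem_normalizer_iff_conj {H : Subgroup G} {g : G} :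
    g ∈ Subgroup.normalizer (H : Set G) ↔ ∀ x ∈ H, g * x * g⁻¹ ∈ H :=
  ⟨fun h x hx => (Subgroup.mem_normalizer_iff.1 h x).1 hx, fun h => Subgroup.mem_normalizer_iff.2
    fun y => ⟨h y, fun hy => by
      have hinj : Function.Injective (fun w : H => (⟨g * w * g⁻¹, h w w.2⟩ : H)) :=
        fun a b hab => Subtype.ext (mul_left_cancel (mul_right_cancel (congrArg Subtype.val hab)))
      obtain ⟨⟨w, hw⟩, he⟩ := (Finite.injective_iff_surjective.1 hinj) ⟨_, hy⟩
      exact mul_left_cancel (mul_right_cancel (congrArg Subtype.val he)) ▸ hw⟩⟩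

namespace Ctx

variable (k : Ctx P c d)
include k

theorem commutator_cases {x y : G} (hx : x ∈ (P : Subgroup G)) (hy : y ∈ (P : Subgroup G)) :
    x * y * x⁻¹ = y ∨ x * y * x⁻¹ = c * y := by
  by_cases h : x * y = y * x
  · exact Or.inl (by rw [h, mul_inv_cancel_right])
  · refine Or.inr ?_
    rw [← k.comm x hx y hy h]
    group

theorem conj_eq_mul {x y : G} (hx : x ∈ (P : Subgroup G)) (hy : y ∈ (P : Subgroup G))
    (h : x * y ≠ y * x) : x * y * x⁻¹ = c * y := by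
  rw [← k.comm x hx y hy h]; group

theorem c_comm {x : G} (hx : x ∈ (P : Subgroup G)) : c * x = x * c := (mem_cen.1 k.c_mem).2 x hx

theorem normalizer_fix {n : G} (hn : n ∈ Subgroup.normalizer ((P : Subgroup G) : Set G)) :
    n * c * n⁻¹ = c := by
  obtain ⟨a, ha, b, hb, hab⟩ := k.hyp.nonab
  have hna := mem_normalizer_iff_conj.1 hn a ha
  have hnb := mem_normalizer_iff_conj.1 hn b hb
  have h := k.comm _ hna _ hnb fun h => hab (by
    rw [conj_mul, conj_mul] at h; exact mul_left_cancel (mul_right_cancel h))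
  calc n * c * n⁻¹ = n * (a * b * a⁻¹ * b⁻¹) * n⁻¹ := by rw [k.comm a ha b hb hab]
    _ = (n * a * n⁻¹) * (n * b * n⁻¹) * (n * a * n⁻¹)⁻¹ * (n * b * n⁻¹)⁻¹ := by group
    _ = c := h

theorem eq_c {y : G} (hy : IsConj c y) (hyc : y ∈ cen (P : Subgroup G)) : y = c := by
  haveI : Fact (Nat.Prime 2) := ⟨Nat.prime_two⟩
  obtain ⟨g, rfl⟩ := isConj_iff.1 hy
  obtain ⟨n, hn, he⟩ := P.conj_eq_normalizer_conj_of_mem_centralizer c g⁻¹ k.c_mem.2
    (by rw [inv_inv]; exact hyc.2)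
  rw [inv_inv] at he
  rw [he]
  simpa using k.normalizer_fix (inv_mem hn)

theorem not_cen {y : G} (hy : IsConj c y) (hne : y ≠ c) : y ∉ cen (P : Subgroup G) :=
  fun h => hne (k.eq_c hy h)

theorem d_not_cen : d ∉ cen (P : Subgroup G) := k.not_cen k.d_conj k.d_ne

theorem exists_map {x y g : G} (hy : y ∈ cen (P : Subgroup G)) (hg : g * x * g⁻¹ = y) :
    ∃ g', g' * x * g'⁻¹ = y ∧ ∀ a ∈ acen (P : Subgroup G) x, g' * a * g'⁻¹ ∈ (P : Subgroup G) := by
  have hPL : (P : Subgroup G) ≤ centralizer ({y} : Set G) := fun p hp =>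
    mem_centralizer_singleton_iff.2 (((mem_cen.1 hy).2 p hp).symm)
  have hTL : (acen (P : Subgroup G) x).map (MulAut.conj g).toMonoidHom ≤
      centralizer ({y} : Set G) := by
    rintro _ ⟨a, ha, rfl⟩
    refine mem_centralizer_singleton_iff.2 ?_
    show g * a * g⁻¹ * y = y * (g * a * g⁻¹)
    rw [← hg, conj_mul, conj_mul, (mem_acen.1 ha).2]
  obtain ⟨l, hl, hlt⟩ := exists_conj_into_of_le P hPL hTL ((P.isPGroup'.to_le (acen_le _ x)).map _)
  refine ⟨l * g, ?_, fun a ha => ?_⟩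
  · calc l * g * x * (l * g)⁻¹ = l * (g * x * g⁻¹) * l⁻¹ := by group
      _ = y := by rw [hg, mem_centralizer_singleton_iff.1 hl, mul_inv_cancel_right]
  · have := hlt _ ⟨a, ha, rfl⟩
    simpa [mul_assoc] using this

theorem no_sqrt {z : G} (hz : z ∈ cen (P : Subgroup G)) : z * z ≠ c := by
  intro hzz
  obtain ⟨g, hg⟩ := isConj_iff.1 k.d_conj.symm
  obtain ⟨g', hg', hmap⟩ := k.exists_map k.c_mem hg
  have hc' : g' * c * g'⁻¹ ∈ cen (P : Subgroup G) := by
    rw [← hzz, ← conj_mul]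
    exact sq_mem k.hyp (hmap z (cen_le_acen k.d_mem hz))
  have h1 := k.eq_c (isConj_iff.2 ⟨g', rfl⟩) hc'
  exact k.d_ne (mul_left_cancel (mul_right_cancel (hg'.trans h1.symm)))

/-- Two conjugates of `c` outside the centre in one coset differ by `c`. -/
theorem pair {d₁ d₂ : G} (h₁ : d₁ ∈ (P : Subgroup G)) (hd₁ : IsConj c d₁) (hn₁ : d₁ ≠ c)
    (hd₂ : IsConj c d₂) (h₂ : d₂ ∈ acen (P : Subgroup G) d₁) (hn₂ : d₂ ≠ c) :
    d₂ = d₁ ∨ d₂ = c * d₁ := by
  have h1c := k.not_cen hd₁ hn₁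
  obtain ⟨g, hg⟩ := isConj_iff.1 hd₁.symm
  obtain ⟨g', hg', hmap⟩ := k.exists_map k.c_mem hg
  have hinj : ∀ {u v : G}, g' * u * g'⁻¹ = g' * v * g'⁻¹ → u = v := fun h =>
    mul_left_cancel (mul_right_cancel h)
  have hcA : c ∈ acen (P : Subgroup G) d₁ := cen_le_acen h₁ k.c_mem
  set c' := g' * c * g'⁻¹ with hc'
  set e := g' * d₂ * g'⁻¹ with he
  have hc'n : c' ∉ cen (P : Subgroup G) :=
    k.not_cen (isConj_iff.2 ⟨g', rfl⟩) fun h => hn₁ (hinj (hg'.trans h.symm))
  have hce : IsConj c e := hd₂.trans (isConj_iff.2 ⟨g', rfl⟩)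
  by_cases h21 : d₂ = d₁
  · exact Or.inl h21
  have hen : e ∉ cen (P : Subgroup G) :=
    k.not_cen hce fun h => h21 (hinj (h.trans hg'.symm))
  refine Or.inr ?_
  have hcoset : c'⁻¹ * e ∈ cen (P : Subgroup G) :=
    coset_of_commute k.hyp (hmap c hcA) (hmap d₂ h₂) hc'n hen
      (by rw [hc', he, conj_mul, conj_mul, acen_comm k.hyp h₁ h1c hcA h₂])
  -- `c d₂` is a conjugate as well
  obtain ⟨u, hu, hux⟩ := exists_other k.hyp h₂.1 (k.not_cen hd₂ hn₂)
  have hcd : IsConj c (c * d₂) :=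
    hd₂.trans (isConj_iff.2 ⟨u, k.conj_eq_mul hu h₂.1 hux⟩)
  have himg : g' * (c * d₂) * g'⁻¹ = c' * e := by rw [hc', he, conj_mul]
  have hc'sq : c'⁻¹ = c' :=
    inv_eq_of_mul_eq_one_left (by rw [hc', conj_mul, k.c_sq, mul_one, mul_inv_cancel])
  have hfix : c' * e = c := k.eq_c
    (by rw [← himg]; exact hcd.trans (isConj_iff.2 ⟨g', rfl⟩))
    (by rw [hc'sq] at hcoset; exact hcoset)
  have h3 : c * d₂ = d₁ := hinj (himg.trans (hfix.trans hg'.symm))
  calc d₂ = c * (c * d₂) := by rw [← mul_assoc, k.c_sq, one_mul]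
    _ = c * d₁ := by rw [h3]

/-- No three cosets contain conjugates of `c`. -/
theorem no_three {d₁ d₂ d₃ : G} (h₁ : d₁ ∈ (P : Subgroup G)) (h₂ : d₂ ∈ (P : Subgroup G))
    (h₃ : d₃ ∈ (P : Subgroup G)) (c₁ : IsConj c d₁) (c₂ : IsConj c d₂) (c₃ : IsConj c d₃)
    (n₁ : d₁ ∉ cen (P : Subgroup G)) (n₂ : d₂ ∉ cen (P : Subgroup G))
    (n₃ : d₃ ∉ cen (P : Subgroup G)) (h12 : d₁⁻¹ * d₂ ∉ cen (P : Subgroup G))
    (h13 : d₁⁻¹ * d₃ ∉ cen (P : Subgroup G)) (h23 : d₂⁻¹ * d₃ ∉ cen (P : Subgroup G)) : False := by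
  have hz : (d₁ * d₂)⁻¹ * d₃ ∈ cen (P : Subgroup G) :=
    ((three k.hyp h₁ h₂ h₃ n₁ n₂ h12 n₃).resolve_left h13).resolve_left h23
  set z := (d₁ * d₂)⁻¹ * d₃ with hzdef
  have hi₁ : d₁⁻¹ = d₁ := inv_eq_of_mul_eq_one_left (conj_sq_one k.c_sq c₁)
  have hi₂ : d₂⁻¹ = d₂ := inv_eq_of_mul_eq_one_left (conj_sq_one k.c_sq c₂)
  have hc : d₁ * d₂ * (d₁ * d₂) = c := by
    have := k.comm d₁ h₁ d₂ h₂ fun h => h12 (coset_of_commute k.hyp h₁ h₂ n₁ n₂ h)
    rw [hi₁, hi₂] at this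
    rw [← this]; group
  have h3 : d₃ = d₁ * d₂ * z := by rw [hzdef, mul_inv_cancel_left]
  have hcomm := (mem_cen.1 hz).2 _ (mul_mem h₁ h₂)
  have := conj_sq_one k.c_sq c₃
  rw [h3, mul_assoc (d₁ * d₂) z, ← mul_assoc z, hcomm, mul_assoc (d₁ * d₂) z z, ← mul_assoc,
    hc] at this
  refine k.no_sqrt hz ?_
  rw [eq_inv_of_mul_eq_one_right this]
  exact inv_eq_of_mul_eq_one_left k.c_sq

/-- `N(P)` fixes the three cosets. -/
theorem coset_fixed {n x : G} (hn : n ∈ Subgroup.normalizer ((P : Subgroup G) : Set G))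
    (hx : x ∈ (P : Subgroup G)) : x⁻¹ * (n * x * n⁻¹) ∈ cen (P : Subgroup G) := by
  classical
  let f : G → G := fun y => n * y * n⁻¹
  have hfP : ∀ {y}, y ∈ (P : Subgroup G) → f y ∈ (P : Subgroup G) := fun hy =>
    mem_normalizer_iff_conj.1 hn _ hy
  have hcn : ∀ {m : G}, m ∈ Subgroup.normalizer ((P : Subgroup G) : Set G) →
      ∀ {y}, y ∈ cen (P : Subgroup G) → m * y * m⁻¹ ∈ cen (P : Subgroup G) := by
    intro m hm y hy
    refine mem_cen.2 ⟨mem_normalizer_iff_conj.1 hm _ hy.1, fun w hw => ?_⟩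
    have h1 := (mem_cen.1 hy).2 _ (mem_normalizer_iff_conj.1 (inv_mem hm) w hw)
    rw [inv_inv] at h1
    calc m * y * m⁻¹ * w = m * (y * (m⁻¹ * w * m)) * m⁻¹ := by group
      _ = m * ((m⁻¹ * w * m) * y) * m⁻¹ := by rw [h1]
      _ = w * (m * y * m⁻¹) := by group
  by_cases hxc : x ∈ cen (P : Subgroup G)
  · exact mul_mem (inv_mem hxc) (hcn hn hxc)
  let rel : G → G → Prop := fun y w => y⁻¹ * w ∈ cen (P : Subgroup G)
  have rtr : ∀ {y w v}, rel y w → rel w v → rel y v := fun {y w v} h1 h2 => by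
    simpa [rel, mul_assoc] using mul_mem h1 h2
  have rsym : ∀ {y w}, rel y w → rel w y := fun {y w} h1 => by simpa [rel] using inv_mem h1
  have rf : ∀ {y w}, rel y w → rel (f y) (f w) := fun {y w} h1 => by
    simpa [rel, f, mul_assoc] using hcn hn h1
  have rback : ∀ {y w}, rel (f y) (f w) → rel y w := fun {y w} h1 => by
    simpa [rel, f, mul_assoc] using hcn (inv_mem hn) h1
  -- odd powers
  obtain ⟨m, e, hm2, hord⟩ : ∃ m e, ¬ 2 ∣ m ∧ orderOf n = 2 ^ e * m := by
    obtain ⟨e, m, hm, he⟩ := Nat.exists_eq_pow_mul_and_not_dvd (orderOf_pos n).ne' 2 (by omega)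
    exact ⟨m, e, hm, he⟩
  have hpow : ∀ y ∈ (P : Subgroup G), rel y (n ^ m * y * (n ^ m)⁻¹) := by
    intro y hy
    have hmP : n ^ m ∈ (P : Subgroup G) := by
      haveI : Fact (Nat.Prime 2) := ⟨Nat.prime_two⟩
      obtain ⟨l, hl, hlP⟩ := exists_conj_into_of_le P
        (L := Subgroup.normalizer ((P : Subgroup G) : Set G)) (T := Subgroup.zpowers (n ^ m))
        Subgroup.le_normalizer (Subgroup.zpowers_le.2 (pow_mem hn m))
        (ProductFusion.isPGroup_zpowers_of_pow (k := e)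
          (by rw [← pow_mul, mul_comm, ← hord, pow_orderOf_eq_one]))
      have h1 := hlP _ (Subgroup.mem_zpowers _)
      simpa [mul_assoc] using mem_normalizer_iff_conj.1 (inv_mem hl) _ h1
    rcases k.commutator_cases hmP hy with h1 | h1
    · show y⁻¹ * _ ∈ cen (P : Subgroup G); rw [h1, inv_mul_cancel]; exact one_mem _
    · show y⁻¹ * _ ∈ cen (P : Subgroup G)
      rw [h1, k.c_comm hy, inv_mul_cancel_left]; exact k.c_mem
  by_contra hne
  change ¬ rel x (f x) at hne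
  have h2 : ¬ rel x (f (f x)) := by
    intro h2
    have hiter : ∀ i, rel x (f^[2 * i] x) := fun i => by
      induction i with
      | zero => simp [rel]
      | succ i ih =>
        rw [show 2 * (i + 1) = 2 * i + 1 + 1 by ring, Function.iterate_succ_apply',
          Function.iterate_succ_apply']
        exact rtr h2 (rf (rf ih))
    have hit : ∀ i, f^[i] x = n ^ i * x * (n ^ i)⁻¹ := fun i => by
      induction i with
      | zero => simp
      | succ i ih =>
        rw [Function.iterate_succ_apply', ih, pow_succ']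
        show n * (n ^ i * x * (n ^ i)⁻¹) * n⁻¹ = _
        group
    obtain ⟨i, hi⟩ : Odd m := Nat.odd_iff.2 (by omega)
    have h3 := hpow x hx
    rw [← hit m, hi, Nat.add_comm, Function.iterate_add_apply, Function.iterate_one] at h3
    exact hne (rtr h3 (rsym (rf (hiter i))))
  have hnc : ∀ {y}, y ∉ cen (P : Subgroup G) → f y ∉ cen (P : Subgroup G) := fun {y} hy h =>
    hy (by simpa [f, mul_assoc] using hcn (inv_mem hn) h)
  -- the orbit meets all three cosets, so `d` is moved too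
  have hd1 : ¬ rel d (f d) ∧ ¬ rel d (f (f d)) := by
    rcases three k.hyp hx (hfP hx) k.d_mem hxc (hnc hxc) hne k.d_not_cen with h | h | h
    · exact ⟨fun h' => hne (rtr (rtr h h') (rf (rsym h))),
        fun h' => h2 (rtr (rtr h h') (rf (rf (rsym h))))⟩
    · exact ⟨fun h' => hne (rback (rtr (rtr h h') (rf (rsym h)))),
        fun h' => h2 (rback (rtr (rtr h h') (rf (rf (rsym h)))))⟩
    · have h3 : rel (f (f x)) d := by
        have hh := ((three k.hyp hx (hfP hx) (hfP (hfP hx)) hxc (hnc hxc) hne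
          (hnc (hnc hxc))).resolve_left h2).resolve_left fun h' => hne (rback h')
        exact rtr (rsym hh) h
      exact ⟨fun h' => hne (rback (rback (rtr (rtr h3 h') (rf (rsym h3))))),
        fun h' => h2 (rback (rback (rtr (rtr h3 h') (rf (rf (rsym h3))))))⟩
  have hconj : ∀ {y}, IsConj c y → IsConj c (f y) := fun hy => hy.trans (isConj_iff.2 ⟨n, rfl⟩)
  exact k.no_three k.d_mem (hfP k.d_mem) (hfP (hfP k.d_mem)) k.d_conj (hconj k.d_conj)
    (hconj (hconj k.d_conj)) k.d_not_cen (hnc k.d_not_cen) (hnc (hnc k.d_not_cen)) hd1.1 hd1.2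
    fun h => hd1.1 (rback h)

theorem normalizer_le_acen {n a : G} (hn : n ∈ Subgroup.normalizer ((P : Subgroup G) : Set G))
    (ha : a ∈ (P : Subgroup G)) (hac : a ∉ cen (P : Subgroup G)) :
    n ∈ Subgroup.normalizer (acen (P : Subgroup G) a : Set G) := by
  refine mem_normalizer_iff_conj.2 fun y hy => (mem_acen_iff k.hyp ha hac).2
    ⟨mem_normalizer_iff_conj.1 hn y hy.1, ?_⟩
  have h1 := k.coset_fixed hn hy.1
  rcases ((mem_acen_iff k.hyp ha hac).1 hy).2 with h2 | h2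
  · exact Or.inl (by simpa using mul_mem h2 h1)
  · exact Or.inr (by simpa [mul_assoc] using mul_mem h2 h1)

/-- Only automorphisms: a conjugate of `acen P a` inside `P` is `acen P a`. -/
theorem acen_stable {g a : G} (ha : a ∈ (P : Subgroup G)) (hac : a ∉ cen (P : Subgroup G))
    (hg : ∀ y ∈ acen (P : Subgroup G) a, g * y * g⁻¹ ∈ (P : Subgroup G)) :
    g ∈ Subgroup.normalizer (acen (P : Subgroup G) a : Set G) := by
  haveI : Fact (Nat.Prime 2) := ⟨Nat.prime_two⟩
  set A := acen (P : Subgroup G) a with hA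
  set B := A.map (MulAut.conj g).toMonoidHom with hB
  have hBP : B ≤ (P : Subgroup G) := by rintro _ ⟨y, hy, rfl⟩; exact hg y hy
  have hcard : Nat.card B = Nat.card A := Subgroup.card_map_of_injective (MulAut.conj g).injective
  obtain ⟨b, hb, hbc⟩ : ∃ b ∈ B, b ∉ cen (P : Subgroup G) := by
    by_contra hno
    push Not at hno
    have := Subgroup.card_le_card_group (B.subgroupOf (cen (P : Subgroup G)))
    rw [Nat.card_congr (Subgroup.subgroupOfEquivOfLe hno).toEquiv, hcard,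
      card_acen k.hyp ha hac] at this
    have := Nat.card_pos (α := cen (P : Subgroup G))
    omega
  have hBA : B = acen (P : Subgroup G) b := by
    refine eq_acen_of_comm k.hyp ha hac hBP hcard ?_ hb hbc
    rintro _ ⟨y, hy, rfl⟩ _ ⟨w, hw, rfl⟩
    rw [← map_mul, ← map_mul, acen_comm k.hyp ha hac hy hw]
  -- both Sylow subgroups normalise `B`
  set L := Subgroup.normalizer (B : Set G) with hL
  have hbP := hBP hb
  have hPA : ∀ {e : G}, e ∈ (P : Subgroup G) → e ∉ cen (P : Subgroup G) →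
      (P : Subgroup G) ≤ Subgroup.normalizer (acen (P : Subgroup G) e : Set G) := fun he hec p hp =>
    k.normalizer_le_acen (Subgroup.le_normalizer hp) he hec
  have hPL : (P : Subgroup G) ≤ L := by rw [hL, hBA]; exact hPA hbP hbc
  have hTL : (P : Subgroup G).map (MulAut.conj g).toMonoidHom ≤ L := by
    rintro _ ⟨p, hp, rfl⟩
    refine mem_normalizer_iff_conj.2 ?_
    rintro _ ⟨y, hy, rfl⟩
    exact ⟨p * y * p⁻¹, mem_normalizer_iff_conj.1 (hPA ha hac hp) y hy, by simp [mul_assoc]⟩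
  obtain ⟨l, hl, hlP⟩ := exists_conj_into_of_le P hPL hTL (P.isPGroup'.map _)
  have hn : l * g ∈ Subgroup.normalizer ((P : Subgroup G) : Set G) :=
    mem_normalizer_iff_conj.2 fun p hp => by simpa [mul_assoc] using hlP _ ⟨p, hp, rfl⟩
  have hnA := k.normalizer_le_acen hn ha hac
  refine mem_normalizer_iff_conj.2 fun y hy => ?_
  have h1 : g * y * g⁻¹ ∈ B := ⟨y, hy, rfl⟩
  have hAB : ∀ w ∈ B, l * w * l⁻¹ ∈ A := by
    rintro _ ⟨w, hw, rfl⟩
    simpa [mul_assoc] using mem_normalizer_iff_conj.1 hnA w hw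
  have hBA' : B ≤ A := by
    intro w hw
    have := hAB _ (mem_normalizer_iff_conj.1 (inv_mem hl) w hw)
    simpa [mul_assoc] using this
  exact hBA' h1

/-- Conjugation inside `P` is composed of `N(P)` and the `N(acen P a)`. -/
theorem fusion_induction (Q : G → G → Prop) (htrans : ∀ x y z, Q x y → Q y z → Q x z)
    (hN : ∀ n ∈ Subgroup.normalizer ((P : Subgroup G) : Set G), ∀ x ∈ (P : Subgroup G),
      Q x (n * x * n⁻¹))
    (hA : ∀ a ∈ (P : Subgroup G), a ∉ cen (P : Subgroup G) →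
      ∀ m ∈ Subgroup.normalizer (acen (P : Subgroup G) a : Set G),
        ∀ x ∈ acen (P : Subgroup G) a, Q x (m * x * m⁻¹))
    {x g : G} (hx : x ∈ (P : Subgroup G)) (hgx : g * x * g⁻¹ ∈ (P : Subgroup G)) :
    Q x (g * x * g⁻¹) := by
  haveI : Fact (Nat.Prime 2) := ⟨Nat.prime_two⟩
  have self_mem : ∀ {a : G}, a ∈ (P : Subgroup G) → a ∈ acen (P : Subgroup G) a := fun ha =>
    mem_acen.2 ⟨ha, rfl⟩
  have down : ∀ {x y g : G}, x ∈ (P : Subgroup G) → x ∉ cen (P : Subgroup G) →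
      y ∈ cen (P : Subgroup G) → g * x * g⁻¹ = y → Q x y ∧ Q y x := by
    intro x y g hx hxc hy hg
    obtain ⟨g', hg', hmap⟩ := k.exists_map hy hg
    have hm := k.acen_stable hx hxc hmap
    refine ⟨hg' ▸ hA x hx hxc g' hm x (self_mem hx), ?_⟩
    have := hA x hx hxc g'⁻¹ (inv_mem hm) y
      (hg' ▸ mem_normalizer_iff_conj.1 hm x (self_mem hx))
    rw [← hg'] at this ⊢
    simpa [mul_assoc] using this
  have cc : ∀ {x g : G}, x ∈ cen (P : Subgroup G) → g * x * g⁻¹ ∈ cen (P : Subgroup G) →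
      Q x (g * x * g⁻¹) := by
    intro x g hx hy
    obtain ⟨n, hn, he⟩ := P.conj_eq_normalizer_conj_of_mem_centralizer x g⁻¹ hx.2
      (by rw [inv_inv]; exact hy.2)
    rw [inv_inv] at he
    rw [he]
    simpa using hN n⁻¹ (inv_mem hn) x hx.1
  set y := g * x * g⁻¹ with hy
  by_cases hxc : x ∈ cen (P : Subgroup G)
  · by_cases hyc : y ∈ cen (P : Subgroup G)
    · exact cc hxc hyc
    · exact (down (g := g⁻¹) hgx hyc hxc (by rw [hy]; group)).2
  by_cases hyc : y ∈ cen (P : Subgroup G)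
  · exact (down hx hxc hyc rfl).1
  by_cases hex : ∃ l, l * y * l⁻¹ ∈ cen (P : Subgroup G)
  · obtain ⟨l, hl⟩ := hex
    exact htrans _ _ _ (down (g := l * g) hx hxc hl (by rw [hy]; group)).1
      (down hgx hyc hl rfl).2
  push Not at hex
  -- `acen P y` is a Sylow subgroup of `C(y)`
  set L := centralizer ({y} : Set G) with hL
  have hAL : acen (P : Subgroup G) y ≤ L := inf_le_right
  obtain ⟨T, hT⟩ := (show IsPGroup 2 ((acen (P : Subgroup G) y).subgroupOf L) from
    (P.isPGroup'.to_le (acen_le _ y)).comap_of_injective L.subtype L.subtype_injective).exists_le_sylow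
  set T' := (T : Subgroup L).map L.subtype with hT'
  obtain ⟨l, hl⟩ := ProductFusion.exists_conj_into P (T.isPGroup'.map L.subtype : IsPGroup 2 T')
  have hyT : y ∈ T' := ⟨⟨y, hAL (self_mem hgx)⟩, hT (self_mem hgx), rfl⟩
  have hTA : acen (P : Subgroup G) y ≤ T' := fun w hw => ⟨⟨w, hAL hw⟩, hT hw, rfl⟩
  have hTeq : T' = acen (P : Subgroup G) y := by
    refine (eq_of_le_of_card_ge hTA ?_).symm
    have hle : T'.map (MulAut.conj l).toMonoidHom ≤ acen (P : Subgroup G) (l * y * l⁻¹) := by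
      rintro _ ⟨w, hw, rfl⟩
      refine mem_acen.2 ⟨hl w hw, ?_⟩
      show l * w * l⁻¹ * (l * y * l⁻¹) = l * y * l⁻¹ * (l * w * l⁻¹)
      obtain ⟨v, -, rfl⟩ := hw
      rw [conj_mul, conj_mul]
      exact congrArg (fun e => l * e * l⁻¹) (mem_centralizer_singleton_iff.1 v.2)
    have := Subgroup.card_le_of_le hle
    rw [Subgroup.card_map_of_injective (MulAut.conj l).injective,
      card_acen k.hyp (hl y hyT) (hex l)] at this
    rwa [card_acen k.hyp hgx hyc]
  have hgA : (acen (P : Subgroup G) x).map (MulAut.conj g).toMonoidHom ≤ L := by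
    rintro _ ⟨w, hw, rfl⟩
    refine mem_centralizer_singleton_iff.2 ?_
    show g * w * g⁻¹ * y = y * (g * w * g⁻¹)
    rw [hy, conj_mul, conj_mul, (mem_acen.1 hw).2]
  obtain ⟨h, hh⟩ := ProductFusion.exists_conj_into T
    (((P.isPGroup'.to_le (acen_le _ x)).map (MulAut.conj g).toMonoidHom).comap_of_injective
      L.subtype L.subtype_injective)
  have hmap : ∀ w ∈ acen (P : Subgroup G) x, (h : G) * g * w * ((h : G) * g)⁻¹ ∈
      acen (P : Subgroup G) y := by
    intro w hw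
    rw [← hTeq]
    refine ⟨h * ⟨g * w * g⁻¹, hgA ⟨w, hw, rfl⟩⟩ * h⁻¹, hh _ ?_, ?_⟩
    · exact ⟨w, hw, rfl⟩
    · simp [mul_assoc]
  have hm := k.acen_stable hx hxc fun w hw => (hmap w hw).1
  have he : (h : G) * g * x * ((h : G) * g)⁻¹ = y := by
    calc (h : G) * g * x * ((h : G) * g)⁻¹ = h * y * (h : G)⁻¹ := by rw [hy]; group
      _ = y := by rw [mem_centralizer_singleton_iff.1 h.2, mul_inv_cancel_right]
  rw [← he]
  exact hA x hx hxc _ hm x (self_mem hx)

theorem stronglyClosed {S : Subgroup G} (hS : S ≤ (P : Subgroup G))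
    (hN : ∀ n ∈ Subgroup.normalizer ((P : Subgroup G) : Set G), ∀ x ∈ S, n * x * n⁻¹ ∈ S)
    (hA : ∀ a ∈ (P : Subgroup G), a ∉ cen (P : Subgroup G) →
      ∀ m ∈ Subgroup.normalizer (acen (P : Subgroup G) a : Set G),
        ∀ x ∈ acen (P : Subgroup G) a, x ∈ S → m * x * m⁻¹ ∈ S) :
    Cfsg.IsStronglyClosed S (P : Subgroup G) :=
  ⟨hS, fun _ hx _ hgx => k.fusion_induction (fun x y => x ∈ S → y ∈ S)
    (fun _ _ _ h1 h2 h => h2 (h1 h)) (fun n hn x _ => hN n hn x) hA (hS hx) hgx hx⟩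

end Ctx

end CfsgLib.IndexFourCentre
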