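import Mathlib.Algebra.BigOperators.Group.Finset.Basic
import Mathlib.GroupTheory.Exponent
import Mathlib.GroupTheory.PGroup
import Mathlib.Data.ZMod.Basic
import Mathlib.Tactic

/-!
# An odd-order group of automorphisms of an abelian 2-group, transitive on a quotient of order four

If the group admits no invariant direct decomposition, it is homocyclic of rank two.
-/

set_option autoImplicit false
set_option linter.style.haveILetI false
set_option linter.unusedSectionVars false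

namespace CfsgLib.IndexFourCentre

open Subgroup

variable {A : Type*} [CommGroup A] [Finite A]

theorem pow_odd_surjective (hA : IsPGroup 2 A) {n : ℕ} (hn : Odd n) (a : A) : ∃ b, b ^ n = a := by
  have hc : Nat.Coprime 2 n := Nat.coprime_two_left.2 hn
  exact ⟨(hA.powEquiv hc).symm a, (hA.powEquiv hc).apply_symm_apply a⟩

theorem eq_one_of_pow_odd (hA : IsPGroup 2 A) {n : ℕ} (hn : Odd n) {a : A} (h : a ^ n = 1) :
    a = 1 := by
  have hc : Nat.Coprime 2 n := Nat.coprime_two_left.2 hn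
  exact (hA.powEquiv hc).injective (h.trans (one_pow n).symm)

/-- Coprime action: the fixed points have an invariant complement. -/
theorem fixed_decomposition (hA : IsPGroup 2 A) (X : Subgroup (MulAut A)) (hX : Odd (Nat.card X)) :
    ∃ F K : Subgroup A, (∀ a, a ∈ F ↔ ∀ x ∈ X, x a = a) ∧ F ⊓ K = ⊥ ∧ F ⊔ K = ⊤ ∧
      (∀ f : MulAut A, (∀ x ∈ X, f * x * f⁻¹ ∈ X) → ∀ a ∈ K, f a ∈ K) ∧
      (∀ Z : Subgroup A, (∀ x ∈ X, ∀ a, a⁻¹ * x a ∈ Z) → K ≤ Z) := by
  classical
  haveI : Finite (MulAut A) :=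
    Finite.of_injective (fun f => (f : A → A)) DFunLike.coe_injective
  let _ : Fintype X := Fintype.ofFinite X
  let e : A →* A :=
    { toFun := fun a => ∏ x : X, (x : MulAut A) a
      map_one' := by simp
      map_mul' := fun a b => by simp [Finset.prod_mul_distrib] }
  have he : ∀ (y : MulAut A), y ∈ X → ∀ a, e (y a) = e a ∧ y (e a) = e a := by
    intro y hy a
    constructor
    · exact Fintype.prod_equiv (Equiv.mulRight (⟨y, hy⟩ : X)) _ _ fun x => rfl
    · show y (∏ x : X, (x : MulAut A) a) = _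
      rw [map_prod]
      exact Fintype.prod_equiv (Equiv.mulLeft (⟨y, hy⟩ : X)) _ _ fun x => rfl
  let F : Subgroup A :=
    { carrier := {a | ∀ x ∈ X, x a = a}
      one_mem' := fun x _ => map_one x
      mul_mem' := fun ha hb x hx => by rw [map_mul, ha x hx, hb x hx]
      inv_mem' := fun ha x hx => by rw [map_inv, ha x hx] }
  have hcard : Fintype.card X = Nat.card X := (Nat.card_eq_fintype_card).symm
  refine ⟨F, e.ker, fun a => Iff.rfl, ?_, ?_, ?_, ?_⟩
  · refine eq_bot_iff.2 fun a ha => mem_bot.2 (eq_one_of_pow_odd hA hX ?_)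
    have h1 : e a = 1 := MonoidHom.mem_ker.1 ha.2
    rw [← h1]
    show _ = ∏ x : X, (x : MulAut A) a
    rw [Finset.prod_congr rfl fun (x : X) _ => ha.1 x x.2, Finset.prod_const, Finset.card_univ, hcard]
  · refine eq_top_iff.2 fun a _ => ?_
    obtain ⟨b, rfl⟩ := pow_odd_surjective hA hX a
    have hF : e b ∈ F := fun x hx => (he x hx b).2
    have hK : (e b)⁻¹ * b ^ Nat.card X ∈ e.ker := by
      rw [MonoidHom.mem_ker, map_mul, map_inv, map_pow, inv_mul_eq_one]
      show ∏ x : X, (x : MulAut A) (e b) = _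
      rw [Finset.prod_congr rfl fun (x : X) _ => hF x x.2, Finset.prod_const, Finset.card_univ, hcard]
    have := mul_mem (mem_sup_left (T := e.ker) hF) (mem_sup_right (S := F) hK)
    rwa [mul_inv_cancel_left] at this
  · intro f hf a ha
    have h1 : e a = 1 := MonoidHom.mem_ker.1 ha
    rw [MonoidHom.mem_ker]
    have hbij : Function.Bijective (fun x : X => (⟨f * x * f⁻¹, hf x x.2⟩ : X)) :=
      Finite.injective_iff_bijective.1 fun p q h =>
        Subtype.ext (mul_left_cancel (mul_right_cancel (congrArg Subtype.val h)))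
    calc e (f a) = ∏ x : X, ((⟨f * x * f⁻¹, hf x x.2⟩ : X) : MulAut A) (f a) :=
          (Fintype.prod_bijective _ hbij _ _ fun x => rfl).symm
      _ = ∏ x : X, f ((x : MulAut A) a) := by simp [MulAut.mul_apply]
      _ = f (e a) := (map_prod f _ _).symm
      _ = 1 := by rw [h1, map_one]
  · intro Z hZ a ha
    have h1 : e a = 1 := MonoidHom.mem_ker.1 ha
    have h2 : (a ^ Nat.card X)⁻¹ * e a ∈ Z := by
      have : ∏ x : X, a⁻¹ * (x : MulAut A) a ∈ Z := prod_mem fun x _ => hZ x x.2 a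
      rwa [Finset.prod_mul_distrib, Finset.prod_const, Finset.card_univ, hcard, inv_pow] at this
    rw [h1, mul_one, inv_mem_iff] at h2
    obtain ⟨j, hj⟩ := hA a
    have hg : ((2 ^ j : ℕ).Coprime (Nat.card X)) := (Nat.coprime_two_left.2 hX).pow_left j
    have := Nat.Coprime.gcd_eq_one hg
    obtain ⟨u, v, huv⟩ : ∃ u v : ℤ, (2 ^ j : ℕ) * u + (Nat.card X : ℤ) * v = 1 :=
      ⟨Nat.gcdA _ _, Nat.gcdB _ _, by rw [← Nat.gcd_eq_gcd_ab, this]; simp⟩
    rw [← zpow_one a, ← huv, zpow_add, zpow_mul, zpow_mul, zpow_natCast, zpow_natCast, hj,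
      one_zpow, one_mul]
    exact zpow_mem h2 v

theorem even_of_form {i j : ℤ} (h : (2 : ℤ) ∣ i * i - i * j + j * j) : 2 ∣ i ∧ 2 ∣ j := by
  have key : ∀ a b : ZMod 2, a * a - a * b + b * b = 0 → a = 0 ∧ b = 0 := by decide
  have h2 : ((i * i - i * j + j * j : ℤ) : ZMod 2) = 0 :=
    (ZMod.intCast_zmod_eq_zero_iff_dvd _ 2).2 (by exact_mod_cast h)
  push_cast at h2
  obtain ⟨hi, hj⟩ := key _ _ h2
  exact ⟨by exact_mod_cast (ZMod.intCast_zmod_eq_zero_iff_dvd _ 2).1 hi,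
    by exact_mod_cast (ZMod.intCast_zmod_eq_zero_iff_dvd _ 2).1 hj⟩

/-- The main statement. -/
theorem exists_homocyclic (hA : IsPGroup 2 A) (X : Subgroup (MulAut A)) (hX : Odd (Nat.card X))
    (Z : Subgroup A) (hZ : ∀ x ∈ X, ∀ a ∈ Z, x a ∈ Z)
    (hthree : ∀ a b w : A, a ∉ Z → b ∉ Z → a⁻¹ * b ∉ Z → w ∉ Z →
      a⁻¹ * w ∈ Z ∨ b⁻¹ * w ∈ Z ∨ (a * b)⁻¹ * w ∈ Z)
    (hmove : ∃ x ∈ X, ∃ a, a⁻¹ * x a ∉ Z)
    (hind : ∀ B C : Subgroup A, (∀ x ∈ X, ∀ b ∈ B, x b ∈ B) → (∀ x ∈ X, ∀ b ∈ C, x b ∈ C) →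
      B ⊓ C = ⊥ → B ⊔ C = ⊤ → B = ⊥ ∨ C = ⊥) :
    ∃ k : ℕ, 1 ≤ k ∧ Nonempty (A ≃* Multiplicative (ZMod (2 ^ k) × ZMod (2 ^ k))) := by
  classical
  haveI : Finite (MulAut A) :=
    Finite.of_injective (fun f => (f : A → A)) DFunLike.coe_injective
  obtain ⟨t, htX, a₀, hta⟩ := hmove
  have rtr : ∀ {a b c : A}, a⁻¹ * b ∈ Z → b⁻¹ * c ∈ Z → a⁻¹ * c ∈ Z := fun {a b c} h1 h2 => by
    simpa [mul_assoc] using mul_mem h1 h2
  have rsym : ∀ {a b : A}, a⁻¹ * b ∈ Z → b⁻¹ * a ∈ Z := fun {a b} h1 => by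
    simpa using inv_mem h1
  have rmap : ∀ {x : MulAut A}, x ∈ X → ∀ {a b : A}, a⁻¹ * b ∈ Z → (x a)⁻¹ * x b ∈ Z :=
    fun {x} hx {a b} h1 => by
      have := hZ x hx _ h1
      rwa [map_mul, map_inv] at this
  have rnc : ∀ {x : MulAut A}, x ∈ X → ∀ {a : A}, a ∉ Z → x a ∉ Z := fun {x} hx {a} ha h => ha
    (by simpa using hZ x⁻¹ (inv_mem hx) _ h)
  -- fixing one non-trivial coset means fixing all
  have hfixall : ∀ x ∈ X, ∀ a, a ∉ Z → a⁻¹ * x a ∈ Z → ∀ b, b⁻¹ * x b ∈ Z := by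
    intro x hx a ha hfix b
    by_contra hb
    have hbZ : b ∉ Z := fun h => hb (mul_mem (inv_mem h) (hZ x hx b h))
    have h2 : b⁻¹ * x (x b) ∈ Z := by
      have hab : a⁻¹ * b ∉ Z := fun h => hb (rtr (rtr (rsym h) hfix) (rmap hx h))
      have hxb : a⁻¹ * x b ∉ Z := fun h => hab (by
        have := rmap (inv_mem hx) (rtr (rsym hfix) h)
        simpa using this)
      have hxxb : a⁻¹ * x (x b) ∉ Z := fun h => hxb (by
        have := rmap (inv_mem hx) (rtr (rsym hfix) h)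
        simpa using this)
      have hxb' := ((hthree a b (x b) ha hbZ hab (rnc hx hbZ)).resolve_left hxb).resolve_left hb
      rcases hthree a b (x (x b)) ha hbZ hab (rnc hx (rnc hx hbZ)) with h | h | h
      · exact absurd h hxxb
      · exact h
      · refine absurd ?_ hb
        have := rmap (inv_mem hx) (rtr (rsym hxb') h)
        simpa using this
    have hev : ∀ i, b⁻¹ * (x ^ (2 * i)) b ∈ Z := by
      intro i
      induction i with
      | zero => simp
      | succ i ih =>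
        have h3 := rtr h2 (rmap hx (rmap hx ih))
        rwa [show 2 * (i + 1) = (2 * i + 1) + 1 by ring, pow_succ', pow_succ', MulAut.mul_apply,
          MulAut.mul_apply]
    obtain ⟨i, hi⟩ := hX
    have hpow : x ^ (2 * i + 1) = 1 := by
      rw [← hi]
      have := pow_card_eq_one' (x := (⟨x, hx⟩ : X))
      exact congrArg Subtype.val this
    have := rmap hx (hev i)
    rw [← MulAut.mul_apply, ← pow_succ', hpow] at this
    exact hb (rsym (by simpa using this))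
  -- the kernel of the action on the quotient
  let X₁ : Subgroup (MulAut A) :=
    { carrier := {x | x ∈ X ∧ ∀ a, a⁻¹ * x a ∈ Z}
      one_mem' := ⟨one_mem _, fun a => by simp⟩
      mul_mem' := fun {x y} hx hy => ⟨mul_mem hx.1 hy.1, fun a => rtr (hy.2 a) (hx.2 (y a))⟩
      inv_mem' := fun {x} hx => ⟨inv_mem hx.1, fun a => rsym (by simpa using hx.2 (x⁻¹ a))⟩ }
  have hX₁ : Odd (Nat.card X₁) :=
    hX.of_dvd_nat (Subgroup.card_dvd_of_le (fun x hx => hx.1))
  have hnorm : ∀ f ∈ X, ∀ x ∈ X₁, f * x * f⁻¹ ∈ X₁ := fun f hf x hx =>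
    ⟨mul_mem (mul_mem hf hx.1) (inv_mem hf), fun a => by
      have := rmap hf (hx.2 (f⁻¹ a))
      simpa [MulAut.mul_apply] using this⟩
  have hX1 : ∀ x ∈ X₁, x = 1 := by
    obtain ⟨F, K, hF, hFK, hsup, hKinv, hKZ⟩ := fixed_decomposition hA X₁ hX₁
    have hFinv : ∀ f ∈ X, ∀ a ∈ F, f a ∈ F := fun f hf a ha => (hF _).2 fun x hx => by
      have hc := hnorm f⁻¹ (inv_mem hf) x hx
      have := congrArg f ((hF a).1 ha _ hc)
      simpa [MulAut.mul_apply] using this
    rcases hind F K hFinv (fun f hf a ha => hKinv f (hnorm f hf) a ha) hFK hsup with h | h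
    · exfalso
      rw [h, bot_sup_eq] at hsup
      have hall : ∀ a, a ∈ Z := fun a => hKZ Z (fun x hx => hx.2) (hsup ▸ mem_top a)
      exact hta (hall _)
    · rw [h, sup_bot_eq] at hsup
      intro x hx
      ext a
      exact (hF a).1 (hsup ▸ mem_top a) x hx
  have hdet : ∀ x ∈ X, ∀ a, a ∉ Z → a⁻¹ * x a ∈ Z → x = 1 := fun x hx a ha h =>
    hX1 x ⟨hx, hfixall x hx a ha h⟩
  have ha₀ : a₀ ∉ Z := fun h => hta (mul_mem (inv_mem h) (hZ t htX a₀ h))
  have ht1 : t ≠ 1 := fun h => hta (by simp [h])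
  have ht2 : a₀⁻¹ * t (t a₀) ∉ Z := fun h => by
    have h2 : t * t = 1 := hdet _ (mul_mem htX htX) a₀ ha₀ h
    refine ht1 ?_
    obtain ⟨i, hi⟩ := hX
    have := congrArg Subtype.val (pow_card_eq_one' (x := (⟨t, htX⟩ : X)))
    rw [hi] at this
    simpa [pow_succ, pow_mul, pow_two, h2] using this
  have hta' : (t a₀)⁻¹ * t (t a₀) ∉ Z := fun h => hta (by
    have := rmap (inv_mem htX) h
    simpa using this)
  have hcases : ∀ x ∈ X, x = 1 ∨ x = t ∨ x = t * t := by
    intro x hx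
    rcases hthree a₀ (t a₀) (x a₀) ha₀ (rnc htX ha₀) hta (rnc hx ha₀) with h | h | h
    · exact Or.inl (hdet x hx a₀ ha₀ h)
    · refine Or.inr (Or.inl (inv_mul_eq_one.1 (hdet _ (mul_mem (inv_mem htX) hx) a₀ ha₀ ?_)).symm)
      have := rmap (inv_mem htX) h
      simpa using this
    · refine Or.inr (Or.inr (inv_mul_eq_one.1
        (hdet _ (mul_mem (inv_mem (mul_mem htX htX)) hx) a₀ ha₀ ?_)).symm)
      have hh := ((hthree a₀ (t a₀) (t (t a₀)) ha₀ (rnc htX ha₀) hta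
        (rnc htX (rnc htX ha₀))).resolve_left ht2).resolve_left hta'
      have := rmap (inv_mem (mul_mem htX htX)) (rtr (rsym hh) h)
      simpa [MulAut.mul_apply, mul_inv_rev] using this
  have ht3 : t * t * t = 1 := by
    rcases hcases _ (mul_mem (mul_mem htX htX) htX) with h | h | h
    · exact h
    · exact absurd (mul_eq_right.1 h)
        fun h' => ht2 (by rw [← MulAut.mul_apply, h']; simp)
    · exact absurd (mul_eq_left.1 h) ht1
  obtain ⟨F, K, hF, hFK, hsup, hKinv, -⟩ := fixed_decomposition hA X hX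
  have hF0 : F = ⊥ := by
    refine (hind F K (fun f hf a ha => by rw [(hF a).1 ha f hf]; exact ha)
      (fun f hf a ha => hKinv f (fun x hx => mul_mem (mul_mem hf hx) (inv_mem hf)) a ha) hFK
      hsup).resolve_right fun h => hta ?_
    rw [h, sup_bot_eq] at hsup
    rw [(hF a₀).1 (hsup ▸ mem_top _) t htX, inv_mul_cancel]
    exact one_mem _
  have htr : ∀ a, a * t a * t (t a) = 1 := by
    intro a
    rw [← mem_bot, ← hF0, hF]
    have h3 : ∀ b, t (t (t b)) = b := fun b => by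
      rw [← MulAut.mul_apply, ← MulAut.mul_apply, ht3]; rfl
    intro x hx
    rcases hcases x hx with rfl | rfl | rfl
    · rfl
    · rw [map_mul, map_mul, h3]; ac_rfl
    · simp only [MulAut.mul_apply, map_mul, h3]; ac_rfl
  -- an element of maximal order
  obtain ⟨u, hu⟩ := Monoid.exists_orderOf_eq_exponent (G := A) Monoid.ExponentExists.of_finite
  obtain ⟨k, hk⟩ := IsPGroup.iff_orderOf.1 hA u
  have hexp : ∀ a : A, a ^ (2 ^ k) = 1 := fun a => by
    rw [← hk, hu]; exact Monoid.pow_exponent_eq_one a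
  have hk1 : 1 ≤ k := by
    by_contra h
    have := hexp a₀
    rw [show k = 0 by omega, pow_zero, pow_one] at this
    exact ha₀ (this ▸ one_mem Z)
  set v := t u with hv
  have hinj : ∀ l, l ≤ k → ∀ i j : ℤ, u ^ i * v ^ j = 1 → (2 ^ l : ℤ) ∣ i ∧ (2 ^ l : ℤ) ∣ j := by
    intro l hl
    induction l with
    | zero => intro i j _; simp
    | succ l ih =>
      intro i j hij
      obtain ⟨⟨i', rfl⟩, ⟨j', rfl⟩⟩ := ih (by omega) i j hij
      have h2 : t u ^ (2 ^ l * i') * t (t u) ^ (2 ^ l * j') = 1 := by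
        rw [← map_zpow, ← map_zpow, ← map_mul, hij, map_one]
      have htt : t (t u) = (u * v)⁻¹ := (inv_eq_of_mul_eq_one_right (htr u)).symm
      rw [htt, inv_zpow', mul_zpow] at h2
      have h3 : u ^ (2 ^ l * (i' * i' - i' * j' + j' * j')) = 1 := by
        have e1 : (u ^ ((2 : ℤ) ^ l * i') * v ^ ((2 : ℤ) ^ l * j')) ^ (i' - j') *
            ((v ^ ((2 : ℤ) ^ l * i') * (u ^ (-((2 : ℤ) ^ l * j')) *
              v ^ (-((2 : ℤ) ^ l * j')))) ^ j')⁻¹ = 1 := by rw [hij, h2]; simp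
        rw [← e1]
        simp only [mul_zpow, ← zpow_mul, ← zpow_neg, mul_inv_rev]
        rw [show ∀ p q r s w : A, p * q * (r * s * w) = p * s * (q * r * w) from
          fun p q r s w => by ac_rfl]
        rw [← zpow_add, ← zpow_add, ← zpow_add]
        rw [show (2 : ℤ) ^ l * j' * (i' - j') + (-(-((2 : ℤ) ^ l * j') * j')) +
          (-((2 : ℤ) ^ l * i' * j')) = 0 by ring, zpow_zero, mul_one]
        congr 1
        ring
      have h4 : ((2 ^ k : ℕ) : ℤ) ∣ 2 ^ l * (i' * i' - i' * j' + j' * j') := by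
        rw [← hk]; exact orderOf_dvd_iff_zpow_eq_one.2 h3
      have h5 : (2 : ℤ) ∣ i' * i' - i' * j' + j' * j' := by
        refine Int.dvd_of_mul_dvd_mul_left (show (2 : ℤ) ^ l ≠ 0 by positivity) ?_
        refine dvd_trans ?_ h4
        push_cast
        rw [← pow_succ]
        exact pow_dvd_pow 2 hl
      obtain ⟨hi, hj⟩ := even_of_form h5
      rw [pow_succ]
      exact ⟨mul_dvd_mul_left _ hi, mul_dvd_mul_left _ hj⟩
  -- the homocyclic subgroup
  have hvk : v ^ (2 ^ k) = 1 := hexp v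
  let n := 2 ^ k
  haveI : NeZero n := ⟨by positivity⟩
  have hcast : ∀ (w : A), w ^ n = 1 → ∀ (p q : ZMod n),
      w ^ (((p + q).val : ℕ)) = w ^ p.val * w ^ q.val := fun w hw p q => by
    rw [← pow_add, ZMod.val_add, pow_eq_pow_mod (p.val + q.val) hw]
  let ψ : Multiplicative (ZMod n × ZMod n) →* A :=
    MonoidHom.mk' (fun p => u ^ (Multiplicative.toAdd p).1.val * v ^ (Multiplicative.toAdd p).2.val)
      fun p q => by
        simp only [toAdd_mul, Prod.fst_add, Prod.snd_add]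
        rw [hcast u (hexp u), hcast v hvk]
        ac_rfl
  have hψinj : Function.Injective ψ := by
    rw [injective_iff_map_eq_one]
    intro p hp
    have h1 := hinj k le_rfl (Multiplicative.toAdd p).1.val (Multiplicative.toAdd p).2.val
      (by rw [zpow_natCast, zpow_natCast]; exact hp)
    have hz : ∀ q : ZMod n, (2 ^ k : ℤ) ∣ (q.val : ℤ) → q = 0 := fun q hq => by
      have hq' : n ∣ q.val := by exact_mod_cast hq
      exact (ZMod.val_eq_zero q).1 (Nat.eq_zero_of_dvd_of_lt hq' (ZMod.val_lt q))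
    exact toAdd_eq_zero.1 (Prod.ext (hz _ h1.1) (hz _ h1.2))
  set M := ψ.range with hM
  have hMmem : ∀ i j : ℕ, u ^ i * v ^ j ∈ M := fun i j => ⟨Multiplicative.ofAdd ((i : ZMod n), (j : ZMod n)), by
    show u ^ (i : ZMod n).val * v ^ (j : ZMod n).val = _
    rw [ZMod.val_natCast, ZMod.val_natCast, ← pow_eq_pow_mod i (hexp u), ← pow_eq_pow_mod j hvk]⟩
  have hMrep : ∀ m ∈ M, ∃ i j : ℕ, m = u ^ i * v ^ j := by
    rintro _ ⟨p, rfl⟩; exact ⟨_, _, rfl⟩
  have huM : u ∈ M := by simpa using hMmem 1 0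
  have hvM : v ∈ M := by simpa using hMmem 0 1
  have htM : ∀ m ∈ M, t m ∈ M := by
    intro m hm
    obtain ⟨i, j, rfl⟩ := hMrep m hm
    rw [map_mul, map_pow, map_pow, show t v = (u * v)⁻¹ from
      (inv_eq_of_mul_eq_one_right (htr u)).symm]
    exact mul_mem (pow_mem hvM i) (pow_mem (inv_mem (mul_mem huM hvM)) j)
  -- a complement
  obtain ⟨W, hWM, hmax⟩ := Set.Finite.exists_maximalFor id {W : Subgroup A | W ⊓ M = ⊥}
    (Set.toFinite _) ⟨⊥, bot_inf_eq M⟩
  simp only [Set.mem_ofPred_eq, id] at hWM hmax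
  have hWsup : W ⊔ M = ⊤ := by
    by_contra hne
    obtain ⟨a, ha⟩ : ∃ a, a ∉ W ⊔ M := by
      by_contra hno; push Not at hno; exact hne (eq_top_iff.2 fun a _ => hno a)
    obtain ⟨a, ha, ha2⟩ : ∃ b, b ∉ W ⊔ M ∧ b * b ∈ W ⊔ M := by
      have hex : ∃ i, a ^ 2 ^ i ∈ W ⊔ M := ⟨k, by rw [hexp]; exact one_mem _⟩
      have h0 : Nat.find hex ≠ 0 := fun h => ha (by simpa [h] using Nat.find_spec hex)
      obtain ⟨i, hi⟩ := Nat.exists_eq_succ_of_ne_zero h0
      refine ⟨a ^ 2 ^ i, Nat.find_min hex (by omega), ?_⟩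
      rw [← pow_two, ← pow_mul, ← pow_succ, ← Nat.succ_eq_add_one, ← hi]
      exact Nat.find_spec hex
    obtain ⟨w, hw, m, hm, hwm⟩ := mem_sup.1 ha2
    obtain ⟨i, j, rfl⟩ := hMrep m hm
    obtain ⟨k', rfl⟩ : ∃ k', k = k' + 1 := ⟨k - 1, by omega⟩
    have h1 : (u ^ i * v ^ j) ^ 2 ^ k' = 1 := by
      have h2 : (w * (u ^ i * v ^ j)) ^ 2 ^ k' = 1 := by
        rw [hwm, ← pow_two, ← pow_mul, ← pow_succ']; exact hexp a
      have h3 : (u ^ i * v ^ j) ^ 2 ^ k' ∈ W := by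
        rw [mul_pow] at h2
        rw [eq_inv_of_mul_eq_one_right h2]; exact inv_mem (pow_mem hw _)
      have h4 : (u ^ i * v ^ j) ^ 2 ^ k' ∈ W ⊓ M := ⟨h3, pow_mem (hMmem i j) _⟩
      rwa [hWM, mem_bot] at h4
    have heven : 2 ∣ i ∧ 2 ∣ j := by
      rw [mul_pow, ← pow_mul, ← pow_mul] at h1
      obtain ⟨hi, hj⟩ := hinj (k' + 1) le_rfl _ _ (by rw [zpow_natCast, zpow_natCast]; exact h1)
      have : ∀ i : ℕ, (2 : ℤ) ^ (k' + 1) ∣ ((i * 2 ^ k' : ℕ) : ℤ) → 2 ∣ i := fun i h => by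
        have h' : 2 ^ (k' + 1) ∣ i * 2 ^ k' := by exact_mod_cast h
        rw [pow_succ, mul_comm i] at h'
        exact Nat.dvd_of_mul_dvd_mul_left (by positivity) h'
      exact ⟨this i hi, this j hj⟩
    obtain ⟨⟨i', rfl⟩, ⟨j', rfl⟩⟩ := heven
    set b := a * (u ^ i' * v ^ j')⁻¹ with hb
    have hbn : b ∉ W ⊔ M := fun h => ha (by
      have h' := mul_mem h (mem_sup_right (S := W) (hMmem i' j'))
      rwa [hb, inv_mul_cancel_right] at h')
    have hb2 : b * b ∈ W := by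
      have e : b * b = a * a * ((u ^ (2 * i') * v ^ (2 * j')))⁻¹ := by
        rw [hb, mul_mul_mul_comm, ← mul_inv_rev, two_mul, two_mul, pow_add, pow_add]
        congr 2; ac_rfl
      rw [e, ← hwm, mul_inv_cancel_right]; exact hw
    have hW' : (W ⊔ zpowers b) ⊓ M = ⊥ := by
      refine eq_bot_iff.2 fun x hx => mem_bot.2 ?_
      obtain ⟨w', hw', _, ⟨i, rfl⟩, rfl⟩ := mem_sup.1 hx.1
      rcases Int.even_or_odd i with ⟨j, rfl⟩ | ⟨j, rfl⟩
      · have : w' * b ^ (j + j) ∈ W ⊓ M :=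
          ⟨mul_mem hw' (by rw [← two_mul, zpow_mul, zpow_two]; exact zpow_mem hb2 j), hx.2⟩
        rwa [hWM, mem_bot] at this
      · exfalso
        refine hbn ?_
        have e : b = (w' * (b * b) ^ j)⁻¹ * (w' * b ^ (2 * j + 1)) := by
          rw [zpow_add_one, zpow_mul, zpow_two, ← mul_assoc w', inv_mul_cancel_left]
        rw [e]
        exact mul_mem (mem_sup_left (inv_mem (mul_mem hw' (zpow_mem hb2 j)))) (mem_sup_right hx.2)
    exact hbn (mem_sup_left (hmax hW' le_sup_left (mem_sup_right (mem_zpowers b))))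
  -- the averaged projection
  have hdec : ∀ a, ∃ m ∈ M, m⁻¹ * a ∈ W := fun a => by
    obtain ⟨w, hw, m, hm, rfl⟩ := mem_sup.1 (hWsup ▸ mem_top a)
    exact ⟨m, hm, by rw [mul_comm w m, inv_mul_cancel_left]; exact hw⟩
  choose r hrM hrW using hdec
  have huniq : ∀ a, ∀ m ∈ M, m⁻¹ * a ∈ W → r a = m := by
    intro a m hm hma
    have : (r a)⁻¹ * m ∈ W ⊓ M :=
      ⟨by simpa [mul_assoc] using W.mul_mem (hrW a) (W.inv_mem hma), M.mul_mem (M.inv_mem (hrM a)) hm⟩
    rw [hWM, mem_bot, inv_mul_eq_one] at this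
    exact this
  have hrmul : ∀ a b, r (a * b) = r a * r b := fun a b => huniq _ _ (mul_mem (hrM a) (hrM b))
    (by rw [mul_inv_rev, mul_comm (r b)⁻¹, mul_mul_mul_comm]; exact mul_mem (hrW a) (hrW b))
  have h3 : ∀ b, t (t (t b)) = b := fun b => by
    rw [← MulAut.mul_apply, ← MulAut.mul_apply, ht3]; rfl
  let R : A →* A := MonoidHom.mk' (fun a => r a * t (r (t (t a))) * t (t (r (t a))))
    fun a b => by simp only [map_mul, hrmul]; ac_rfl
  have hRM : ∀ m ∈ M, R m = m ^ 3 := by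
    intro m hm
    show r m * t (r (t (t m))) * t (t (r (t m))) = _
    rw [huniq m m hm (by simp), huniq _ _ (htM _ (htM _ hm)) (by simp),
      huniq _ _ (htM _ hm) (by simp), h3, pow_three, mul_assoc]
  have hRt : ∀ a, R (t a) = t (R a) := by
    intro a
    show r (t a) * t (r (t (t (t a)))) * t (t (r (t (t a)))) = t (_ * _ * _)
    simp only [h3, map_mul]; ac_rfl
  have hKt : ∀ x ∈ X, ∀ a ∈ R.ker, x a ∈ R.ker := by
    have : ∀ a ∈ R.ker, t a ∈ R.ker := fun a ha => by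
      rw [MonoidHom.mem_ker, hRt, MonoidHom.mem_ker.1 ha, map_one]
    intro x hx a ha
    rcases hcases x hx with rfl | rfl | rfl
    exacts [ha, this a ha, this _ (this a ha)]
  have hMt : ∀ x ∈ X, ∀ a ∈ M, x a ∈ M := by
    intro x hx a ha
    rcases hcases x hx with rfl | rfl | rfl
    exacts [ha, htM a ha, htM _ (htM a ha)]
  have hKM : R.ker ⊓ M = ⊥ := eq_bot_iff.2 fun a ha => mem_bot.2
    (eq_one_of_pow_odd hA (n := 3) ⟨1, rfl⟩ ((hRM a ha.2).symm.trans (MonoidHom.mem_ker.1 ha.1)))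
  have hKsup : R.ker ⊔ M = ⊤ := by
    refine eq_top_iff.2 fun a _ => ?_
    obtain ⟨b, rfl⟩ := pow_odd_surjective hA (n := 3) ⟨1, rfl⟩ a
    have hRb : R b ∈ M := mul_mem (mul_mem (hrM _) (htM _ (hrM _))) (htM _ (htM _ (hrM _)))
    have hk' : b ^ 3 * (R b)⁻¹ ∈ R.ker := by
      rw [MonoidHom.mem_ker, map_mul, map_inv, map_pow, hRM _ hRb, mul_inv_cancel]
    have := mul_mem (mem_sup_left (T := M) hk') (mem_sup_right (S := R.ker) hRb)
    rwa [inv_mul_cancel_right] at this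
  have hu1 : u ≠ 1 := fun h => by
    rw [h, orderOf_one] at hk
    exact absurd hk (Nat.ne_of_lt (Nat.one_lt_two_pow (by omega)))
  have hK0 : R.ker = ⊥ := (hind _ _ hKt hMt hKM hKsup).resolve_right fun h =>
    hu1 (mem_bot.1 (h ▸ huM))
  rw [hK0, bot_sup_eq] at hKsup
  exact ⟨k, hk1, ⟨(MulEquiv.ofBijective ψ ⟨hψinj, MonoidHom.range_eq_top.1 hKsup⟩).symm⟩⟩

end CfsgLib.IndexFourCentre
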