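import Cfsg.Agent.IndexFourCentre.Fusion

/-!
# The normalizer of a maximal abelian subgroup containing a conjugate of the commutator

It is generated, in its action, by `N(P)` and an element `t` permuting `c, d, c * d` cyclically; the
fixed points of `t` are an invariant complement of `{1, c, d, c * d}`.
-/

set_option autoImplicit false
set_option linter.style.haveILetI false
set_option linter.unusedSectionVars false

open Subgroup

namespace CfsgLib.IndexFourCentre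

universe u

variable {G : Type u} [Group G] [Finite G] {P : Sylow 2 G} {c d : G}

theorem mem_zpowers_two {c x : G} (hc : c * c = 1) :
    x ∈ Subgroup.zpowers c ↔ x = 1 ∨ x = c := by
  refine ⟨?_, ?_⟩
  · rintro ⟨i, rfl⟩
    rcases Int.even_or_odd i with ⟨j, rfl⟩ | ⟨j, rfl⟩
    · refine Or.inl ?_
      show c ^ (j + j) = 1
      rw [← two_mul, zpow_mul, zpow_two, hc, one_zpow]
    · refine Or.inr ?_
      show c ^ (2 * j + 1) = c
      rw [zpow_add, zpow_mul, zpow_one, zpow_two, hc, one_zpow, one_mul]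
  · rintro (rfl | rfl)
    · exact one_mem _
    · exact mem_zpowers x

/-- The automorphisms of `A` trivial on `W` and on `A / W`, as a subgroup of `G`. -/
def stab (A W : Subgroup G) (hWA : W ≤ A) : Subgroup G where
  carrier := {m | m ∈ Subgroup.normalizer (A : Set G) ∧ (∀ w ∈ W, m * w * m⁻¹ = w) ∧
    ∀ y ∈ A, y⁻¹ * (m * y * m⁻¹) ∈ W}
  one_mem' := ⟨one_mem _, fun w _ => by simp, fun y _ => by simp⟩
  mul_mem' := by
    rintro a b ⟨ha, ha1, ha2⟩ ⟨hb, hb1, hb2⟩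
    refine ⟨mul_mem ha hb, fun w hw => ?_, fun y hy => ?_⟩
    · rw [show a * b * w * (a * b)⁻¹ = a * (b * w * b⁻¹) * a⁻¹ by group, hb1 w hw, ha1 w hw]
    · have := mul_mem (hb2 y hy) (ha2 _ (mem_normalizer_iff_conj.1 hb y hy))
      simpa [mul_assoc] using this
  inv_mem' := by
    rintro a ⟨ha, ha1, ha2⟩
    refine ⟨inv_mem ha, fun w hw => ?_, fun y hy => ?_⟩
    · have h := ha1 w hw
      calc a⁻¹ * w * a⁻¹⁻¹ = a⁻¹ * (a * w * a⁻¹) * a⁻¹⁻¹ := by rw [h]
        _ = w := by group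
    · have h := ha2 _ (mem_normalizer_iff_conj.1 (inv_mem ha) y hy)
      have h' := inv_mem h
      simpa [mul_assoc] using h'

/-- The elements acting on `A` as elements of `P`. -/
def likeP (P A : Subgroup G) (hPA : P ≤ Subgroup.normalizer (A : Set G)) : Subgroup G where
  carrier := {g | g ∈ Subgroup.normalizer (A : Set G) ∧
    ∃ q ∈ P, ∀ y ∈ A, g * y * g⁻¹ = q * y * q⁻¹}
  one_mem' := ⟨one_mem _, 1, one_mem _, fun y _ => rfl⟩
  mul_mem' := by
    rintro a b ⟨ha, q, hq, ha'⟩ ⟨hb, r, hr, hb'⟩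
    refine ⟨mul_mem ha hb, q * r, mul_mem hq hr, fun y hy => ?_⟩
    have hry : r * y * r⁻¹ ∈ A := mem_normalizer_iff_conj.1 (hPA hr) y hy
    rw [show a * b * y * (a * b)⁻¹ = a * (b * y * b⁻¹) * a⁻¹ by group, hb' y hy, ha' _ hry]
    group
  inv_mem' := by
    rintro a ⟨ha, q, hq, ha'⟩
    refine ⟨inv_mem ha, q⁻¹, inv_mem hq, fun y hy => ?_⟩
    have h := ha' _ (mem_normalizer_iff_conj.1 (inv_mem (hPA hq)) y hy)
    calc a⁻¹ * y * a⁻¹⁻¹ = a⁻¹ * (q * (q⁻¹ * y * q⁻¹⁻¹) * q⁻¹) * a⁻¹⁻¹ := by group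
      _ = a⁻¹ * (a * (q⁻¹ * y * q⁻¹⁻¹) * a⁻¹) * a⁻¹⁻¹ := by rw [h]
      _ = q⁻¹ * y * q⁻¹⁻¹ := by group

/-- The four elements `1, c, d, c * d`. -/
def quad (c d : G) : Subgroup G := Subgroup.closure {c, d}

theorem mem_quad {c d x : G} (hc : c * c = 1) (hd : d * d = 1) (hcd : c * d = d * c) :
    x ∈ quad c d ↔ x = 1 ∨ x = c ∨ x = d ∨ x = c * d := by
  constructor
  · intro hx
    have hi : ∀ {y : G}, (y = 1 ∨ y = c ∨ y = d ∨ y = c * d) → y⁻¹ = y := by
      rintro y (rfl | rfl | rfl | rfl)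
      · simp
      · exact inv_eq_of_mul_eq_one_left hc
      · exact inv_eq_of_mul_eq_one_left hd
      · rw [mul_inv_rev, inv_eq_of_mul_eq_one_left hc, inv_eq_of_mul_eq_one_left hd, hcd]
    induction hx using Subgroup.closure_induction with
    | mem y hy =>
      rcases hy with rfl | hy
      · exact Or.inr (Or.inl rfl)
      · exact Or.inr (Or.inr (Or.inl hy))
    | one => exact Or.inl rfl
    | mul a b _ _ ha hb =>
      have e1 : d * (c * d) = c := by rw [← mul_assoc, ← hcd, mul_assoc, hd, mul_one]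
      have e2 : c * d * c = d := by rw [hcd, mul_assoc, hc, mul_one]
      have e3 : c * d * (c * d) = 1 := by rw [mul_assoc, e1, hc]
      have e4 : c * (c * d) = d := by rw [← mul_assoc, hc, one_mul]
      have e5 : c * d * d = c := by rw [mul_assoc, hd, mul_one]
      rcases ha with h | h | h | h <;> rcases hb with g | g | g | g <;> rw [h, g] <;>
        simp [hc, hd, e1, e2, e3, e4, e5, ← hcd]
    | inv a _ ha => rwa [hi ha]
  · have hcm : c ∈ quad c d := Subgroup.subset_closure (Or.inl rfl)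
    have hdm : d ∈ quad c d := Subgroup.subset_closure (Or.inr rfl)
    rintro (rfl | rfl | rfl | rfl)
    · exact one_mem _
    · exact hcm
    · exact hdm
    · exact mul_mem hcm hdm

namespace Ctx

variable (k : Ctx P c d)
include k

theorem P_le_normalizer {a : G} (ha : a ∈ (P : Subgroup G)) (hac : a ∉ cen (P : Subgroup G)) :
    (P : Subgroup G) ≤ Subgroup.normalizer (acen (P : Subgroup G) a : Set G) := fun _ hp =>
  k.normalizer_le_acen (Subgroup.le_normalizer hp) ha hac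

/-- An element of `stab` acts as an element of `P`. -/
theorem stab_near {a : G} (ha : a ∈ (P : Subgroup G)) (hac : a ∉ cen (P : Subgroup G))
    {W : Subgroup G} (hWA : W ≤ acen (P : Subgroup G) a) (hW2 : ∀ w ∈ W, w * w = 1)
    (hWN : ∀ m ∈ Subgroup.normalizer (acen (P : Subgroup G) a : Set G), ∀ w ∈ W, m * w * m⁻¹ ∈ W)
    {m : G} (hm : m ∈ stab (acen (P : Subgroup G) a) W hWA) :
    ∃ q ∈ (P : Subgroup G), q ∈ stab (acen (P : Subgroup G) a) W hWA ∧
      ∀ y ∈ acen (P : Subgroup G) a, m * y * m⁻¹ = q * y * q⁻¹ := by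
  set A := acen (P : Subgroup G) a
  set S := stab A W hWA
  have hWc : ∀ v ∈ W, ∀ w ∈ W, v * w = w * v := fun v hv w hw =>
    acen_comm k.hyp ha hac (hWA hv) (hWA hw)
  have hcomm : ∀ {s r : G}, s ∈ S → r ∈ S → ∀ y ∈ A,
      s * (r * y * r⁻¹) * s⁻¹ = r * (s * y * s⁻¹) * r⁻¹ := by
    intro s r hs hr y hy
    have h1 : ∀ {e f : G}, e ∈ S → f ∈ S →
        e * (f * y * f⁻¹) * e⁻¹ = y * (y⁻¹ * (e * y * e⁻¹)) * (y⁻¹ * (f * y * f⁻¹)) :=
      fun {e f} he hf => by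
        calc e * (f * y * f⁻¹) * e⁻¹ = (e * y * e⁻¹) * (e * (y⁻¹ * (f * y * f⁻¹)) * e⁻¹) := by group
          _ = (e * y * e⁻¹) * (y⁻¹ * (f * y * f⁻¹)) := by rw [he.2.1 _ (hf.2.2 y hy)]
          _ = _ := by rw [mul_inv_cancel_left]
    rw [h1 hs hr, h1 hr hs, mul_assoc y, mul_assoc y, hWc _ (hs.2.2 y hy) _ (hr.2.2 y hy)]
  have hsq : ∀ {s : G}, s ∈ S → ∀ y ∈ A, s * s * y * (s * s)⁻¹ = y := by
    intro s hs y hy
    have hw := hs.2.2 y hy
    calc s * s * y * (s * s)⁻¹ = (s * y * s⁻¹) * (s * (y⁻¹ * (s * y * s⁻¹)) * s⁻¹) := by group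
      _ = (s * y * s⁻¹) * (y⁻¹ * (s * y * s⁻¹)) := by rw [hs.2.1 _ hw]
      _ = y * ((y⁻¹ * (s * y * s⁻¹)) * (y⁻¹ * (s * y * s⁻¹))) := by group
      _ = y := by rw [hW2 _ hw, mul_one]
  obtain ⟨e, o, ho, hord⟩ : ∃ e o, ¬ 2 ∣ o ∧ orderOf m = 2 ^ e * o := by
    obtain ⟨e, o, ho, he⟩ := Nat.exists_eq_pow_mul_and_not_dvd (orderOf_pos m).ne' 2 (by omega)
    exact ⟨e, o, ho, he⟩
  have hpow : ∀ i, ∀ y ∈ A, m ^ (2 * i + 1) * y * (m ^ (2 * i + 1))⁻¹ = m * y * m⁻¹ := by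
    intro i
    induction i with
    | zero => intro y _; simp
    | succ i ih =>
      intro y hy
      rw [show 2 * (i + 1) + 1 = (2 * i + 1) + 2 by ring, pow_add, pow_two]
      rw [show m ^ (2 * i + 1) * (m * m) * y * (m ^ (2 * i + 1) * (m * m))⁻¹ =
        m ^ (2 * i + 1) * (m * m * y * (m * m)⁻¹) * (m ^ (2 * i + 1))⁻¹ by group, hsq hm y hy,
        ih y hy]
  obtain ⟨i, hi⟩ : Odd o := Nat.odd_iff.2 (by omega)
  obtain ⟨l, hl, hlP⟩ := ProductFusion.exists_conj_mem_sylow P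
    (L := Subgroup.normalizer (A : Set G)) (N := S) (k.P_le_normalizer ha hac)
    (fun s hs => hs.1) (fun g hg => mem_normalizer_iff_conj.2 fun s hs => by
      refine ⟨mul_mem (mul_mem hg hs.1) (inv_mem hg), fun w hw => ?_, fun y hy => ?_⟩
      · have h1 := hWN _ (inv_mem hg) w hw
        rw [show g * s * g⁻¹ * w * (g * s * g⁻¹)⁻¹ =
          g * (s * (g⁻¹ * w * g⁻¹⁻¹) * s⁻¹) * g⁻¹ by group, hs.2.1 _ h1]
        group
      · have h1 := hWN _ hg _ (hs.2.2 _ (mem_normalizer_iff_conj.1 (inv_mem hg) y hy))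
        simpa [mul_assoc] using h1)
    (x := m ^ o) (pow_mem hm o) ⟨e, by rw [← pow_mul, mul_comm, ← hord, pow_orderOf_eq_one]⟩
  refine ⟨_, hlP, mul_mem (mul_mem hl (pow_mem hm o)) (inv_mem hl), fun y hy => ?_⟩
  have hy' : l⁻¹ * y * l⁻¹⁻¹ ∈ A := mem_normalizer_iff_conj.1 (inv_mem hl.1) y hy
  calc m * y * m⁻¹ = m ^ o * y * (m ^ o)⁻¹ := by rw [hi, hpow i y hy]
    _ = m ^ o * (l * (l⁻¹ * y * l⁻¹⁻¹) * l⁻¹) * (m ^ o)⁻¹ := by group
    _ = l * (m ^ o * (l⁻¹ * y * l⁻¹⁻¹) * (m ^ o)⁻¹) * l⁻¹ := hcomm (pow_mem hm o) hl _ hy'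
    _ = l * m ^ o * l⁻¹ * y * (l * m ^ o * l⁻¹)⁻¹ := by group

/-- The Frattini argument for the action on `acen P a`. -/
theorem reduce {a : G} (ha : a ∈ (P : Subgroup G)) (hac : a ∉ cen (P : Subgroup G)) {m : G}
    (hm : m ∈ Subgroup.normalizer (acen (P : Subgroup G) a : Set G))
    (hP : ∀ p ∈ (P : Subgroup G), ∃ q ∈ (P : Subgroup G), ∀ y ∈ acen (P : Subgroup G) a,
      m * p * m⁻¹ * y * (m * p * m⁻¹)⁻¹ = q * y * q⁻¹) :
    ∃ n ∈ Subgroup.normalizer ((P : Subgroup G) : Set G), ∀ y ∈ acen (P : Subgroup G) a,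
      m * y * m⁻¹ = n * y * n⁻¹ := by
  have hPA := k.P_le_normalizer ha hac
  set K := likeP (P : Subgroup G) (acen (P : Subgroup G) a) hPA
  have hPK : (P : Subgroup G) ≤ K := fun p hp => ⟨hPA hp, p, hp, fun _ _ => rfl⟩
  have hTK : (P : Subgroup G).map (MulAut.conj m).toMonoidHom ≤ K := by
    rintro _ ⟨p, hp, rfl⟩
    exact ⟨mul_mem (mul_mem hm (hPA hp)) (inv_mem hm), hP p hp⟩
  obtain ⟨l, hl, hlP⟩ := exists_conj_into_of_le P hPK hTK (P.isPGroup'.map _)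
  have hn : l * m ∈ Subgroup.normalizer ((P : Subgroup G) : Set G) :=
    mem_normalizer_iff_conj.2 fun p hp => by simpa [mul_assoc] using hlP _ ⟨p, hp, rfl⟩
  obtain ⟨q, hq, hlq⟩ := hl.2
  refine ⟨q⁻¹ * (l * m), mul_mem (inv_mem (Subgroup.le_normalizer hq)) hn, fun y hy => ?_⟩
  have h := hlq _ (mem_normalizer_iff_conj.1 hm y hy)
  calc m * y * m⁻¹ = q⁻¹ * (q * (m * y * m⁻¹) * q⁻¹) * q := by group
    _ = q⁻¹ * (l * (m * y * m⁻¹) * l⁻¹) * q := by rw [h]
    _ = _ := by group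

/-- Without a second conjugate of `c` in `acen P a`, its normalizer acts as `N(P)`. -/
theorem normalizer_acen_of_no {a : G} (ha : a ∈ (P : Subgroup G))
    (hac : a ∉ cen (P : Subgroup G))
    (hno : ∀ e ∈ acen (P : Subgroup G) a, IsConj c e → e = c) {m : G}
    (hm : m ∈ Subgroup.normalizer (acen (P : Subgroup G) a : Set G)) :
    ∃ n ∈ Subgroup.normalizer ((P : Subgroup G) : Set G), ∀ y ∈ acen (P : Subgroup G) a,
      m * y * m⁻¹ = n * y * n⁻¹ := by
  set A := acen (P : Subgroup G) a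
  have hcA : c ∈ A := cen_le_acen ha k.c_mem
  have hfix : ∀ {g : G}, g ∈ Subgroup.normalizer (A : Set G) → g * c * g⁻¹ = c := fun {g} hg =>
    hno _ (mem_normalizer_iff_conj.1 hg c hcA) (isConj_iff.2 ⟨g, rfl⟩)
  have hW : Subgroup.zpowers c ≤ A := Subgroup.zpowers_le.2 hcA
  have hWN : ∀ g ∈ Subgroup.normalizer (A : Set G), ∀ w ∈ Subgroup.zpowers c,
      g * w * g⁻¹ ∈ Subgroup.zpowers c := by
    intro g hg w hw
    rcases (mem_zpowers_two k.c_sq).1 hw with rfl | rfl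
    · simp
    · rw [hfix hg]; exact hw
  refine k.reduce ha hac hm fun p hp => ?_
  have hpA := k.P_le_normalizer ha hac hp
  obtain ⟨q, hq, -, hqy⟩ := k.stab_near ha hac hW
    (fun w hw => by rcases (mem_zpowers_two k.c_sq).1 hw with rfl | rfl <;> simp [k.c_sq]) hWN
    (m := m * p * m⁻¹) ⟨mul_mem (mul_mem hm hpA) (inv_mem hm), fun w hw => by
        rcases (mem_zpowers_two k.c_sq).1 hw with rfl | rfl
        · simp
        · exact hfix (mul_mem (mul_mem hm hpA) (inv_mem hm)),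
      fun y hy => by
        have hy' := mem_normalizer_iff_conj.1 (inv_mem hm) y hy
        have h1 : (m⁻¹ * y * m⁻¹⁻¹)⁻¹ * (p * (m⁻¹ * y * m⁻¹⁻¹) * p⁻¹) ∈ Subgroup.zpowers c := by
          rcases k.commutator_cases hp hy'.1 with h | h <;> rw [h]
          · rw [inv_mul_cancel]; exact one_mem _
          · rw [k.c_comm hy'.1, inv_mul_cancel_left]; exact Subgroup.mem_zpowers c
        have := hWN m hm _ h1
        simpa [mul_assoc] using this⟩
  exact ⟨q, hq, hqy⟩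

/-- The data attached to the coset of `d`. -/
theorem exists_rotation : ∃ t : G × Subgroup G,
    t.2 ≤ cen (P : Subgroup G) ∧
    (∀ y ∈ acen (P : Subgroup G) d, ∃ w ∈ quad c d, ∃ e ∈ t.2, y = w * e) ∧
    (∀ x ∈ t.2, x ∈ quad c d → x = 1) ∧
    (∀ m ∈ Subgroup.normalizer (acen (P : Subgroup G) d : Set G),
      ∀ e ∈ t.2, m * e * m⁻¹ ∈ t.2) ∧
    (∀ e ∈ t.2, t.1 * e * t.1⁻¹ = e) ∧
    (∀ m ∈ Subgroup.normalizer (acen (P : Subgroup G) d : Set G),
      ∀ w ∈ quad c d, m * w * m⁻¹ ∈ quad c d) ∧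
    (∀ m ∈ Subgroup.normalizer (acen (P : Subgroup G) d : Set G), ∃ i : ℕ,
      ∃ n ∈ Subgroup.normalizer ((P : Subgroup G) : Set G), ∀ y ∈ acen (P : Subgroup G) d,
        m * y * m⁻¹ = t.1 ^ i * (n * y * n⁻¹) * (t.1 ^ i)⁻¹) := by
  have hdc := k.d_not_cen
  set A := acen (P : Subgroup G) d with hAdef
  have hdA : d ∈ A := mem_acen.2 ⟨k.d_mem, rfl⟩
  have hcA : c ∈ A := cen_le_acen k.d_mem k.c_mem
  have hcd : c * d = d * c := k.c_comm k.d_mem
  have hdd := conj_sq_one k.c_sq k.d_conj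
  have hd1 : d ≠ 1 := fun h => hdc (h ▸ one_mem _)
  have hWmem : ∀ {x : G}, x ∈ quad c d ↔ x = 1 ∨ x = c ∨ x = d ∨ x = c * d :=
    mem_quad k.c_sq hdd hcd
  have hWA : quad c d ≤ A := fun x hx => by
    rcases hWmem.1 hx with rfl | rfl | rfl | rfl
    exacts [one_mem _, hcA, hdA, mul_mem hcA hdA]
  have hcls : ∀ {e : G}, e ∈ A → IsConj c e → e = c ∨ e = d ∨ e = c * d := by
    intro e he hce
    by_cases h : e = c
    · exact Or.inl h
    · exact Or.inr (k.pair k.d_mem k.d_conj k.d_ne hce he h)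
  have himg : ∀ {g e : G}, g ∈ Subgroup.normalizer (A : Set G) → e ∈ A → IsConj c e →
      g * e * g⁻¹ = c ∨ g * e * g⁻¹ = d ∨ g * e * g⁻¹ = c * d := fun {g e} hg he hce =>
    hcls (mem_normalizer_iff_conj.1 hg e he) (hce.trans (isConj_iff.2 ⟨g, rfl⟩))
  obtain ⟨u, hu, hud⟩ := exists_other k.hyp k.d_mem hdc
  have hu_d : u * d * u⁻¹ = c * d := k.conj_eq_mul hu k.d_mem hud
  have hu_c : u * c * u⁻¹ = c := by rw [← k.c_comm hu, mul_inv_cancel_right]
  have hu_cd : u * (c * d) * u⁻¹ = d := by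
    rw [← conj_mul, hu_c, hu_d, ← mul_assoc, k.c_sq, one_mul]
  have hWN : ∀ g ∈ Subgroup.normalizer (A : Set G), ∀ w ∈ quad c d, g * w * g⁻¹ ∈ quad c d := by
    intro g hg w hw
    rcases hWmem.1 hw with rfl | rfl | rfl | rfl
    · simp
    · exact hWmem.2 (Or.inr (himg hg hcA (IsConj.refl _)))
    · exact hWmem.2 (Or.inr (himg hg hdA k.d_conj))
    · exact hWmem.2 (Or.inr (himg hg (mul_mem hcA hdA)
        (k.d_conj.trans (isConj_iff.2 ⟨u, hu_d⟩))))
  have hW2 : ∀ w ∈ quad c d, w * w = 1 := by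
    intro w hw
    rcases hWmem.1 hw with rfl | rfl | rfl | rfl
    exacts [one_mul _, k.c_sq, hdd,
      conj_sq_one k.c_sq (k.d_conj.trans (isConj_iff.2 ⟨u, hu_d⟩))]
  -- an element of `stab` acts trivially
  have htriv : ∀ {g : G}, g ∈ stab A (quad c d) hWA → ∀ y ∈ A, g * y * g⁻¹ = y := by
    intro g hg y hy
    obtain ⟨q, hq, hqS, hqy⟩ := k.stab_near k.d_mem hdc hWA hW2 hWN hg
    rw [hqy y hy]
    have hqA : q ∈ A := mem_acen.2
      ⟨hq, mul_inv_eq_iff_eq_mul.1 (hqS.2.1 d (hWmem.2 (Or.inr (Or.inr (Or.inl rfl)))))⟩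
    rw [acen_comm k.hyp k.d_mem hdc hqA hy, mul_inv_cancel_right]
  -- elements moving `d` to `c`
  obtain ⟨g₀, hg₀⟩ := isConj_iff.1 k.d_conj.symm
  obtain ⟨m₀, hm₀, hmap⟩ := k.exists_map k.c_mem hg₀
  have hm₀A := k.acen_stable k.d_mem hdc hmap
  have huA := k.P_le_normalizer k.d_mem hdc hu
  set u' := m₀⁻¹ * u * m₀ with hu'
  have hu'A : u' ∈ Subgroup.normalizer (A : Set G) := mul_mem (mul_mem (inv_mem hm₀A) huA) hm₀A
  have hu'd : u' * d * u'⁻¹ = d := by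
    calc u' * d * u'⁻¹ = m₀⁻¹ * (u * (m₀ * d * m₀⁻¹) * u⁻¹) * m₀ := by rw [hu']; group
      _ = m₀⁻¹ * (m₀ * d * m₀⁻¹) * m₀ := by rw [hm₀, hu_c]
      _ = d := by group
  have hu'c : u' * c * u'⁻¹ = c * d := by
    have h2 : u * (m₀ * c * m₀⁻¹) * u⁻¹ = c * (m₀ * c * m₀⁻¹) := by
      rcases himg hm₀A hcA (IsConj.refl _) with h | h | h
      · exact absurd (mul_left_cancel (mul_right_cancel (hm₀.trans h.symm))) k.d_ne
      · rw [h, hu_d]
      · rw [h, hu_cd, ← mul_assoc, k.c_sq, one_mul]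
    calc u' * c * u'⁻¹ = m₀⁻¹ * (u * (m₀ * c * m₀⁻¹) * u⁻¹) * m₀ := by rw [hu']; group
      _ = m₀⁻¹ * (m₀ * d * m₀⁻¹ * (m₀ * c * m₀⁻¹)) * m₀ := by rw [h2, hm₀]
      _ = d * c := by group
      _ = c * d := hcd.symm
  have hmodu : ∀ {p : G}, p ∈ (P : Subgroup G) → ∀ y ∈ A,
      y⁻¹ * (p * y * p⁻¹) = 1 ∨ y⁻¹ * (p * y * p⁻¹) = c := fun {p} hp y hy => by
    rcases k.commutator_cases hp hy.1 with h | h <;> rw [h]
    · exact Or.inl (inv_mul_cancel y)
    · exact Or.inr (by rw [k.c_comm hy.1, inv_mul_cancel_left])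
  set t := u' * u with ht
  have htA : t ∈ Subgroup.normalizer (A : Set G) := mul_mem hu'A huA
  have htc : t * c * t⁻¹ = c * d := by
    rw [show t * c * t⁻¹ = u' * (u * c * u⁻¹) * u'⁻¹ by rw [ht]; group, hu_c, hu'c]
  have htd : t * d * t⁻¹ = c := by
    rw [show t * d * t⁻¹ = u' * (u * d * u⁻¹) * u'⁻¹ by rw [ht]; group, hu_d, ← conj_mul, hu'c,
      hu'd, mul_assoc, hdd, mul_one]
  have htcd : t * (c * d) * t⁻¹ = d := by
    rw [← conj_mul, htc, htd, hcd, mul_assoc, k.c_sq, mul_one]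
  have htmod : ∀ y ∈ A, y⁻¹ * (t * y * t⁻¹) ∈ quad c d := by
    intro y hy
    have h1 : y⁻¹ * (u * y * u⁻¹) ∈ quad c d := by
      rcases hmodu hu y hy with h | h <;> rw [h]
      exacts [one_mem _, hWmem.2 (Or.inr (Or.inl rfl))]
    set y₁ := u * y * u⁻¹
    have hy₁ : y₁ ∈ A := mem_normalizer_iff_conj.1 huA y hy
    have h2 : y₁⁻¹ * (u' * y₁ * u'⁻¹) ∈ quad c d := by
      have hy₂ := mem_normalizer_iff_conj.1 hm₀A y₁ hy₁
      have h3 : (m₀ * y₁ * m₀⁻¹)⁻¹ * (u * (m₀ * y₁ * m₀⁻¹) * u⁻¹) ∈ quad c d := by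
        rcases hmodu hu _ hy₂ with h | h <;> rw [h]
        exacts [one_mem _, hWmem.2 (Or.inr (Or.inl rfl))]
      have := hWN _ (inv_mem hm₀A) _ h3
      simpa [hu', mul_assoc] using this
    have := mul_mem h1 h2
    simpa [ht, y₁, mul_assoc] using this
  -- the fixed points
  set C := A ⊓ centralizer ({t} : Set G) with hC
  have hmemC : ∀ {y : G}, y ∈ C ↔ y ∈ A ∧ t * y * t⁻¹ = y := fun {y} =>
    ⟨fun h => ⟨h.1, by rw [← mem_centralizer_singleton_iff.1 h.2, mul_inv_cancel_right]⟩,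
      fun h => ⟨h.1, mem_centralizer_singleton_iff.2 (mul_inv_eq_iff_eq_mul.1 h.2).symm⟩⟩
  have hsplit : ∀ y ∈ A, ∃ w ∈ quad c d, ∃ e ∈ C, y = w * e := by
    intro y hy
    obtain ⟨w, hw, hwt⟩ : ∃ w ∈ quad c d, w⁻¹ * (t * w * t⁻¹) = y⁻¹ * (t * y * t⁻¹) := by
      rcases hWmem.1 (htmod y hy) with h | h | h | h <;> rw [h]
      · exact ⟨1, one_mem _, by simp⟩
      · refine ⟨c * d, hWmem.2 (Or.inr (Or.inr (Or.inr rfl))), ?_⟩
        rw [htcd, inv_eq_of_mul_eq_one_left (hW2 _ (hWmem.2 (Or.inr (Or.inr (Or.inr rfl))))),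
          mul_assoc, hdd, mul_one]
      · refine ⟨c, hWmem.2 (Or.inr (Or.inl rfl)), ?_⟩
        rw [htc, inv_mul_cancel_left]
      · refine ⟨d, hWmem.2 (Or.inr (Or.inr (Or.inl rfl))), ?_⟩
        rw [htd, inv_eq_of_mul_eq_one_left hdd, hcd]
    have he : w⁻¹ * y ∈ A := mul_mem (inv_mem (hWA hw)) hy
    refine ⟨w, hw, w⁻¹ * y, hmemC.2 ⟨he, ?_⟩, (mul_inv_cancel_left _ _).symm⟩
    have hX : t * w * t⁻¹ ∈ A := hWA (hWN t htA w hw)
    have hY : t * y * t⁻¹ ∈ A := mem_normalizer_iff_conj.1 htA y hy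
    have hc1 : ∀ {p q : G}, p ∈ A → q ∈ A → p * q = q * p := fun hp hq =>
      acen_comm k.hyp k.d_mem hdc hp hq
    have hY' : t * y * t⁻¹ = y * (w⁻¹ * (t * w * t⁻¹)) := by rw [hwt, mul_inv_cancel_left]
    calc t * (w⁻¹ * y) * t⁻¹ = (t * w * t⁻¹)⁻¹ * (t * y * t⁻¹) := by group
      _ = (t * w * t⁻¹)⁻¹ * (w⁻¹ * y * (t * w * t⁻¹)) := by
          rw [hY', ← mul_assoc y w⁻¹, hc1 hy (inv_mem (hWA hw))]
      _ = w⁻¹ * y := by rw [hc1 he hX, inv_mul_cancel_left]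
  have hinter : ∀ x ∈ C, x ∈ quad c d → x = 1 := by
    intro x hx hxW
    have hfix := (hmemC.1 hx).2
    rcases hWmem.1 hxW with rfl | rfl | rfl | rfl
    · rfl
    · rw [htc] at hfix; exact absurd (mul_eq_left.1 hfix) hd1
    · rw [htd] at hfix; exact absurd hfix.symm k.d_ne
    · rw [htcd] at hfix; exact absurd (mul_eq_right.1 hfix.symm) k.c_ne
  -- invariance
  have hCinv : ∀ g ∈ Subgroup.normalizer (A : Set G), ∀ e ∈ C, g * e * g⁻¹ ∈ C := by
    intro g hg e he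
    obtain ⟨heA, het⟩ := hmemC.1 he
    refine hmemC.2 ⟨mem_normalizer_iff_conj.1 hg e heA, ?_⟩
    set t' := g⁻¹ * t * g with ht'
    have ht'A : t' ∈ Subgroup.normalizer (A : Set G) := mul_mem (mul_mem (inv_mem hg) htA) hg
    have hnofix : ∀ w ∈ quad c d, t' * w * t'⁻¹ = w → w = 1 := by
      intro w hw h
      have h2 : t * (g * w * g⁻¹) * t⁻¹ = g * w * g⁻¹ := by
        rw [show t * (g * w * g⁻¹) * t⁻¹ = g * (t' * w * t'⁻¹) * g⁻¹ by rw [ht']; group, h]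
      have := hinter _ (hmemC.2 ⟨hWA (hWN g hg w hw), h2⟩) (hWN g hg w hw)
      exact conj_eq_one_iff.1 this
    have hinj : ∀ {a b : G}, t' * a * t'⁻¹ = t' * b * t'⁻¹ → a = b := fun h =>
      mul_left_cancel (mul_right_cancel h)
    have ht'mod : ∀ y ∈ A, y⁻¹ * (t' * y * t'⁻¹) ∈ quad c d := by
      intro y hy
      have := hWN _ (inv_mem hg) _ (htmod _ (mem_normalizer_iff_conj.1 hg y hy))
      simpa [ht', mul_assoc] using this
    have hcW : c ∈ quad c d := hWmem.2 (Or.inr (Or.inl rfl))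
    have hdW : d ∈ quad c d := hWmem.2 (Or.inr (Or.inr (Or.inl rfl)))
    have hcdW : c * d ∈ quad c d := mul_mem hcW hdW
    have hcne := k.c_ne
    -- `t'` agrees with `t` or `t⁻¹`
    obtain ⟨r, hr, hrr⟩ : ∃ r : G, (r = t ∨ r = t⁻¹) ∧
        (t' * c * t'⁻¹ = r * c * r⁻¹ ∧ t' * d * t'⁻¹ = r * d * r⁻¹) := by
      have htic : t⁻¹ * c * t⁻¹⁻¹ = d := by
        calc t⁻¹ * c * t⁻¹⁻¹ = t⁻¹ * (t * d * t⁻¹) * t⁻¹⁻¹ := by rw [htd]
          _ = d := by group
      have htid : t⁻¹ * d * t⁻¹⁻¹ = c * d := by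
        calc t⁻¹ * d * t⁻¹⁻¹ = t⁻¹ * (t * (c * d) * t⁻¹) * t⁻¹⁻¹ := by rw [htcd]
          _ = c * d := by group
      rcases himg ht'A hcA (IsConj.refl _) with h1 | h1 | h1
      · exact absurd (hnofix c hcW h1) hcne
      · refine ⟨t⁻¹, Or.inr rfl, by rw [h1, htic], ?_⟩
        rw [htid]
        rcases himg ht'A hdA k.d_conj with h2 | h2 | h2
        · exfalso
          have h3 : t' * (c * d) * t'⁻¹ = c * d := by rw [← conj_mul, h1, h2, hcd]
          exact k.d_not_cen (by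
            have := hnofix _ hcdW h3
            rw [eq_inv_of_mul_eq_one_right this]; exact inv_mem k.c_mem)
        · exact absurd (hnofix d hdW h2) hd1
        · exact h2
      · refine ⟨t, Or.inl rfl, by rw [h1, htc], ?_⟩
        rw [htd]
        rcases himg ht'A hdA k.d_conj with h2 | h2 | h2
        · exact h2
        · exact absurd (hnofix d hdW h2) hd1
        · exact absurd (hinj (h1.trans h2.symm)).symm k.d_ne
    have hrA : r ∈ Subgroup.normalizer (A : Set G) := by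
      rcases hr with rfl | rfl
      exacts [htA, inv_mem htA]
    have hre : r * e * r⁻¹ = e := by
      rcases hr with rfl | rfl
      · exact het
      · calc t⁻¹ * e * t⁻¹⁻¹ = t⁻¹ * (t * e * t⁻¹) * t⁻¹⁻¹ := by rw [het]
          _ = e := by group
    have hrmod : ∀ y ∈ A, y⁻¹ * (r * y * r⁻¹) ∈ quad c d := by
      intro y hy
      rcases hr with rfl | rfl
      · exact htmod y hy
      · have := inv_mem (htmod _ (mem_normalizer_iff_conj.1 hrA y hy))
        simpa [mul_assoc] using this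
    have hS : r⁻¹ * t' ∈ stab A (quad c d) hWA := by
      refine ⟨mul_mem (inv_mem hrA) ht'A, fun w hw => ?_, fun y hy => ?_⟩
      · have hwr : t' * w * t'⁻¹ = r * w * r⁻¹ := by
          rcases hWmem.1 hw with rfl | rfl | rfl | rfl
          · simp
          · exact hrr.1
          · exact hrr.2
          · rw [← conj_mul, hrr.1, hrr.2, conj_mul]
        calc r⁻¹ * t' * w * (r⁻¹ * t')⁻¹ = r⁻¹ * (t' * w * t'⁻¹) * r := by group
          _ = w := by rw [hwr]; group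
      · have hy1 := mem_normalizer_iff_conj.1 ht'A y hy
        have h3 := hrmod _ (mem_normalizer_iff_conj.1 (inv_mem hrA) _ hy1)
        have := mul_mem (ht'mod y hy) (inv_mem h3)
        simpa [mul_assoc] using this
    have h4 := htriv hS e heA
    have h5 : t' * e * t'⁻¹ = e := by
      calc t' * e * t'⁻¹ = r * (r⁻¹ * t' * e * (r⁻¹ * t')⁻¹) * r⁻¹ := by group
        _ = e := by rw [h4, hre]
    calc t * (g * e * g⁻¹) * t⁻¹ = g * (t' * e * t'⁻¹) * g⁻¹ := by rw [ht']; group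
      _ = g * e * g⁻¹ := by rw [h5]
  have hCcen : C ≤ cen (P : Subgroup G) := by
    intro y hy
    by_contra hyc
    have hyA := (hmemC.1 hy).1
    have huy : u * y ≠ y * u := fun h => hud (by
      have h1 : u ∈ acen (P : Subgroup G) y := mem_acen.2 ⟨hu, h⟩
      rw [acen_eq k.hyp k.d_mem hyA hdc hyc] at h1
      exact (mem_acen.1 h1).2)
    have h2 := hCinv u huA y hy
    rw [k.conj_eq_mul hu hyA.1 huy] at h2
    have h3 : c ∈ C := by simpa using mul_mem h2 (inv_mem hy)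
    exact k.c_ne (hinter c h3 (hWmem.2 (Or.inr (Or.inl rfl))))
  -- generation
  have hgen : ∀ m ∈ Subgroup.normalizer (A : Set G), ∃ i : ℕ,
      ∃ n ∈ Subgroup.normalizer ((P : Subgroup G) : Set G), ∀ y ∈ A,
        m * y * m⁻¹ = t ^ i * (n * y * n⁻¹) * (t ^ i)⁻¹ := by
    intro m hm
    obtain ⟨i, hi⟩ : ∃ i : ℕ, t ^ i * c * (t ^ i)⁻¹ = m * c * m⁻¹ := by
      rcases himg hm hcA (IsConj.refl _) with h | h | h <;> rw [h]
      · exact ⟨0, by simp⟩
      · refine ⟨2, ?_⟩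
        rw [show t ^ 2 * c * (t ^ 2)⁻¹ = t * (t * c * t⁻¹) * t⁻¹ by rw [pow_two]; group, htc, htcd]
      · exact ⟨1, by rw [pow_one, htc]⟩
    set m₁ := (t ^ i)⁻¹ * m with hm₁
    have hm₁A : m₁ ∈ Subgroup.normalizer (A : Set G) := mul_mem (inv_mem (pow_mem htA i)) hm
    have hm₁c : m₁ * c * m₁⁻¹ = c := by
      calc m₁ * c * m₁⁻¹ = (t ^ i)⁻¹ * (m * c * m⁻¹) * t ^ i := by rw [hm₁]; group
        _ = c := by rw [← hi]; group
    obtain ⟨n, hn, hmn⟩ := k.reduce k.d_mem hdc hm₁A fun p hp => by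
      set p' := m₁ * p * m₁⁻¹ with hp'
      have hp'A : p' ∈ Subgroup.normalizer (A : Set G) :=
        mul_mem (mul_mem hm₁A (k.P_le_normalizer k.d_mem hdc hp)) (inv_mem hm₁A)
      have hp'c : p' * c * p'⁻¹ = c := by
        calc p' * c * p'⁻¹ = m₁ * (p * (m₁⁻¹ * (m₁ * c * m₁⁻¹) * m₁) * p⁻¹) * m₁⁻¹ := by
              rw [hm₁c, hp']; group
          _ = m₁ * (p * c * p⁻¹) * m₁⁻¹ := by group
          _ = c := by rw [← k.c_comm hp, mul_inv_cancel_right, hm₁c]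
      have hp'mod : ∀ y ∈ A, y⁻¹ * (p' * y * p'⁻¹) = 1 ∨ y⁻¹ * (p' * y * p'⁻¹) = c := by
        intro y hy
        have h := hmodu hp _ (mem_normalizer_iff_conj.1 (inv_mem hm₁A) y hy)
        have e1 : y⁻¹ * (p' * y * p'⁻¹) = m₁ * ((m₁⁻¹ * y * m₁⁻¹⁻¹)⁻¹ *
            (p * (m₁⁻¹ * y * m₁⁻¹⁻¹) * p⁻¹)) * m₁⁻¹ := by rw [hp']; group
        rw [e1]
        rcases h with h | h <;> rw [h]
        · exact Or.inl (by simp)
        · exact Or.inr hm₁c
      have hmemS : ∀ {s : G}, s ∈ Subgroup.normalizer (A : Set G) → s * c * s⁻¹ = c →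
          s * d * s⁻¹ = d → (∀ y ∈ A, y⁻¹ * (s * y * s⁻¹) ∈ quad c d) →
          s ∈ stab A (quad c d) hWA := by
        intro s hs h1 h2 h3
        refine ⟨hs, fun w hw => ?_, h3⟩
        rcases hWmem.1 hw with rfl | rfl | rfl | rfl
        · simp
        · exact h1
        · exact h2
        · rw [← conj_mul, h1, h2]
      have hp'q : ∀ y ∈ A, y⁻¹ * (p' * y * p'⁻¹) ∈ quad c d := fun y hy => by
        rcases hp'mod y hy with h | h <;> rw [h]
        exacts [one_mem _, hWmem.2 (Or.inr (Or.inl rfl))]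
      rcases himg hp'A hdA k.d_conj with h | h | h
      · exact absurd (mul_left_cancel (mul_right_cancel (h.trans hp'c.symm))) k.d_ne
      · exact ⟨1, one_mem _, fun y hy => by simpa using htriv (hmemS hp'A hp'c h hp'q) y hy⟩
      · refine ⟨u, hu, fun y hy => ?_⟩
        have hS := hmemS (s := u⁻¹ * p') (mul_mem (inv_mem huA) hp'A)
          (by calc u⁻¹ * p' * c * (u⁻¹ * p')⁻¹ = u⁻¹ * (p' * c * p'⁻¹) * u := by group
                _ = u⁻¹ * (u * c * u⁻¹) * u := by rw [hp'c, hu_c]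
                _ = c := by group)
          (by calc u⁻¹ * p' * d * (u⁻¹ * p')⁻¹ = u⁻¹ * (p' * d * p'⁻¹) * u := by group
                _ = u⁻¹ * (u * d * u⁻¹) * u := by rw [h, hu_d]
                _ = d := by group)
          (fun w hw => by
            have hw1 := mem_normalizer_iff_conj.1 hp'A w hw
            have h3 : (p' * w * p'⁻¹)⁻¹ * (u⁻¹ * (p' * w * p'⁻¹) * u⁻¹⁻¹) ∈ quad c d := by
              rcases hmodu (inv_mem hu) _ hw1 with h | h <;> rw [h]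
              exacts [one_mem _, hWmem.2 (Or.inr (Or.inl rfl))]
            have := mul_mem (hp'q w hw) h3
            simpa [mul_assoc] using this)
        have h4 := htriv hS y hy
        calc p' * y * p'⁻¹ = u * (u⁻¹ * p' * y * (u⁻¹ * p')⁻¹) * u⁻¹ := by group
          _ = u * y * u⁻¹ := by rw [h4]
    refine ⟨i, n, hn, fun y hy => ?_⟩
    calc m * y * m⁻¹ = t ^ i * (m₁ * y * m₁⁻¹) * (t ^ i)⁻¹ := by rw [hm₁]; group
      _ = _ := by rw [hmn y hy]
  exact ⟨(t, C), hCcen, hsplit, hinter, hCinv, fun e he => (hmemC.1 he).2, hWN, hgen⟩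

end Ctx

end CfsgLib.IndexFourCentre
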