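import Cfsg.Agent.IndexFourCentre.Decompose
import Cfsg.Agent.IndexFourCentre.Homocyclic
import Cfsg.Agent.ProductFusion.DirectProduct
import Cfsg.Agent.GW.Known
import Cfsg.Agent.S0215
import Cfsg.Agent.S0949
import Cfsg.Agent.S2116
import Cfsg.Agent.TwoGroups.Models
import Mathlib.GroupTheory.IsPerfect
import Mathlib.Algebra.Group.Shrink

/-!
# Quasisimple groups with a Sylow 2-subgroup whose centre has index four

Under the Gorenstein–Walter hypothesis they have Sylow 2-subgroups of order eight and are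
`A₇`, `3.A₇` or covers of `PSL₂(q)`.
-/

set_option autoImplicit false
set_option linter.style.haveILetI false
set_option linter.unusedSectionVars false

open Subgroup
open scoped commutatorElement

namespace CfsgLib.IndexFourCentre

universe u

variable {G : Type u} [Group G] [Finite G]

/-- A central commutator map is trivial in a perfect group. -/
theorem mem_center_of_commutator (hperf : commutator G = ⊤) {u : G}
    (h : ∀ g : G, u * g * u⁻¹ * g⁻¹ ∈ center G) : u ∈ center G := by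
  let φ : G →* center G := MonoidHom.mk' (fun g => ⟨u * g * u⁻¹ * g⁻¹, h g⟩) fun g g' =>
    Subtype.ext <| by
      show u * (g * g') * u⁻¹ * (g * g')⁻¹ = u * g * u⁻¹ * g⁻¹ * (u * g' * u⁻¹ * g'⁻¹)
      have hz := mem_center_iff.1 (h g') g
      calc u * (g * g') * u⁻¹ * (g * g')⁻¹
          = u * g * u⁻¹ * ((u * g' * u⁻¹ * g'⁻¹) * g⁻¹) := by group
        _ = u * g * u⁻¹ * (g⁻¹ * (g * (u * g' * u⁻¹ * g'⁻¹)) * g⁻¹) := by group
        _ = u * g * u⁻¹ * (g⁻¹ * ((u * g' * u⁻¹ * g'⁻¹) * g) * g⁻¹) := by rw [hz]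
        _ = _ := by group
  have hker : commutator G ≤ φ.ker := by
    rw [_root_.commutator_def, commutator_le]
    intro a _ b _
    rw [MonoidHom.mem_ker, map_commutatorElement, commutatorElement_eq_one_iff_mul_comm]
    exact Subtype.ext (mem_center_iff.1 (φ b).2 (φ a : G))
  refine mem_center_iff.2 fun g => ?_
  have h1 : u * g * u⁻¹ * g⁻¹ = 1 :=
    congrArg Subtype.val (MonoidHom.mem_ker.1 (hker (hperf ▸ mem_top g)))
  calc g * u = 1 * g * u := by group
    _ = u * g * u⁻¹ * g⁻¹ * g * u := by rw [h1]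
    _ = u * g := by group

/-- A quasisimple group has only central proper normal subgroups. -/
theorem normal_le_center (hperf : commutator G = ⊤) [IsSimpleGroup (G ⧸ center G)] (N : Subgroup G)
    [hN : N.Normal] : N ≤ center G ∨ N = ⊤ := by
  rcases IsSimpleGroup.eq_bot_or_eq_top_of_normal (N.map (QuotientGroup.mk' (center G)))
    (hN.map _ (QuotientGroup.mk'_surjective _)) with h | h
  · exact Or.inl fun x hx => by
      have := h ▸ mem_map_of_mem (QuotientGroup.mk' (center G)) hx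
      rwa [mem_bot, ← MonoidHom.mem_ker, QuotientGroup.ker_mk'] at this
  · refine Or.inr (eq_top_iff.2 ?_)
    rw [← hperf, _root_.commutator_def, commutator_le]
    have hdec : ∀ a : G, ∃ n ∈ N, ∃ z ∈ center G, a = n * z := fun a => by
      obtain ⟨n, hn, he⟩ := mem_map.1 (h ▸ mem_top (QuotientGroup.mk' (center G) a))
      refine ⟨n, hn, n⁻¹ * a, ?_, (mul_inv_cancel_left _ _).symm⟩
      rw [← QuotientGroup.ker_mk' (center G), MonoidHom.mem_ker, map_mul, map_inv, he,
        inv_mul_cancel]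
    intro a _ b _
    obtain ⟨n, hn, z, hz, rfl⟩ := hdec a
    obtain ⟨m, hm, w, hw, rfl⟩ := hdec b
    have hzc : ∀ x, z * x = x * z := fun x => (mem_center_iff.1 hz x).symm
    have hwc : ∀ x, w * x = x * w := fun x => (mem_center_iff.1 hw x).symm
    have e : ⁅n * z, m * w⁆ = ⁅n, m⁆ := by
      rw [commutatorElement_def, commutatorElement_def, mul_inv_rev, mul_inv_rev]
      calc n * z * (m * w) * (z⁻¹ * n⁻¹) * (w⁻¹ * m⁻¹)
          = n * (z * (m * w)) * z⁻¹ * n⁻¹ * w⁻¹ * m⁻¹ := by group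
        _ = n * m * (w * n⁻¹) * w⁻¹ * m⁻¹ := by rw [hzc]; group
        _ = _ := by rw [hwc]; group
    rw [e, commutatorElement_def]
    exact mul_mem (mul_mem (mul_mem hn hm) (inv_mem hn)) (inv_mem hm)

theorem card_center_eq (P : Subgroup G) : Nat.card (center P) = Nat.card (cen P) := by
  have h : (center P).map P.subtype = cen P := by
    ext x
    refine ⟨?_, fun hx => ⟨⟨x, hx.1⟩, mem_cen_coe.1 hx, rfl⟩⟩
    rintro ⟨y, hy, rfl⟩
    exact mem_cen_coe.2 hy
  rw [← h, card_map_of_injective P.subtype_injective]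

theorem mem_of_central_two (P : Sylow 2 G) {z : G} (hz : z ∈ center G) (hk : ∃ k, z ^ 2 ^ k = 1) :
    z ∈ (P : Subgroup G) := by
  obtain ⟨k, hk⟩ := hk
  obtain ⟨g, hg⟩ := ProductFusion.exists_conj_into P (ProductFusion.isPGroup_zpowers_of_pow hk)
  have := hg z (mem_zpowers z)
  rwa [mem_center_iff.1 hz g, mul_inv_cancel_right] at this

/-- In a perfect group a central element of a Sylow subgroup lies in its commutator subgroup. -/
theorem central_mem (P : Sylow 2 G) {c : G} (hperf : commutator G = ⊤)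
    (hcomm : ∀ x ∈ (P : Subgroup G), ∀ y ∈ (P : Subgroup G), x * y ≠ y * x →
      x * y * x⁻¹ * y⁻¹ = c)
    {z : G} (hzP : z ∈ (P : Subgroup G)) (hz : z ∈ center G) : z ∈ zpowers c := by
  haveI : Fact (Nat.Prime 2) := ⟨Nat.prime_two⟩
  set Z := (zpowers c).subgroupOf (P : Subgroup G) with hZ
  have hle : commutator (P : Subgroup G) ≤ Z := by
    rw [_root_.commutator_def, commutator_le]
    intro a _ b _
    rw [hZ, mem_subgroupOf, commutatorElement_def]
    simp only [coe_mul, coe_inv]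
    by_cases h : (a : G) * b = b * a
    · rw [h, mul_inv_cancel_right, mul_inv_cancel]; exact one_mem _
    · rw [hcomm a a.2 b b.2 h]; exact mem_zpowers c
  let V : G →* Abelianization (P : Subgroup G) := MonoidHom.transfer Abelianization.of
  have hker : commutator G ≤ V.ker := by
    rw [_root_.commutator_def, commutator_le]
    intro a _ b _
    rw [MonoidHom.mem_ker, map_commutatorElement, commutatorElement_eq_one_iff_mul_comm,
      mul_comm]
  have h1 : V z = 1 := MonoidHom.mem_ker.1 (hker (hperf ▸ mem_top z))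
  rw [MonoidHom.transfer_eq_pow Abelianization.of z (fun k g₀ _ => by
    rw [mul_assoc, ← mem_center_iff.1 (pow_mem hz k) g₀, inv_mul_cancel_left])] at h1
  have h2 : (⟨z, hzP⟩ : (P : Subgroup G)) ^ (P : Subgroup G).index ∈
      commutator (P : Subgroup G) := by
    rw [← QuotientGroup.eq_one_iff]
    exact h1
  have h3 : z ^ (P : Subgroup G).index ∈ zpowers c := mem_subgroupOf.1 (hle h2)
  obtain ⟨j, hj⟩ := P.isPGroup' ⟨z, hzP⟩
  have hj' : z ^ 2 ^ j = 1 := congrArg Subtype.val hj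
  have hodd : ¬ 2 ∣ (P : Subgroup G).index := P.not_dvd_index
  have hg : (2 ^ j).Coprime (P : Subgroup G).index :=
    ((Nat.prime_two.coprime_iff_not_dvd).2 hodd).pow_left j
  obtain ⟨a, b, hab⟩ : ∃ a b : ℤ, ((2 ^ j : ℕ) : ℤ) * a + ((P : Subgroup G).index : ℤ) * b = 1 :=
    ⟨Nat.gcdA _ _, Nat.gcdB _ _, by rw [← Nat.gcd_eq_gcd_ab, hg.gcd_eq_one]; simp⟩
  rw [← zpow_one z, ← hab, zpow_add, zpow_mul, zpow_mul, zpow_natCast, zpow_natCast, hj', one_zpow,
    one_mul]
  exact zpow_mem h3 b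

/-- The odd centre of a perfect group with central quotient `A₇` has order one or three. -/
theorem card_center_alt_seven (hperf : commutator G = ⊤)
    (e : G ⧸ center G ≃* alternatingGroup (Fin 7)) (hodd : Odd (Nat.card (center G))) :
    Nat.card (center G) = 1 ∨ Nat.card (center G) = 3 := by
  let i : Shrink.{0} G ≃* G := Shrink.mulEquiv
  haveI : Finite (Shrink.{0} G) := Finite.of_equiv G i.symm.toEquiv
  let σ : Shrink.{0} G →* alternatingGroup (Fin 7) :=
    (e.toMonoidHom.comp (QuotientGroup.mk' (center G))).comp i.toMonoidHom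
  have hker : ∀ x, x ∈ σ.ker ↔ i x ∈ center G := fun x => by
    rw [MonoidHom.mem_ker]
    show e (QuotientGroup.mk' (center G) (i x)) = 1 ↔ _
    rw [map_eq_one_iff e e.injective, ← MonoidHom.mem_ker, QuotientGroup.ker_mk']
  have hst : Cfsg.IsStemExtension σ := by
    refine ⟨e.surjective.comp ((QuotientGroup.mk'_surjective _).comp i.surjective),
      fun x hx => mem_center_iff.2 fun g => i.injective ?_, fun x _ => ?_⟩
    · rw [map_mul, map_mul]; exact mem_center_iff.1 ((hker x).1 hx) (i g)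
    · have hx : i x ∈ (commutator G) := hperf ▸ mem_top _
      rw [_root_.commutator_def] at hx ⊢
      have h2 := mem_map_of_mem i.symm.toMonoidHom hx
      rw [map_commutator, ← MonoidHom.range_eq_map,
        MonoidHom.range_eq_top.2 i.symm.surjective] at h2
      simpa using h2
  obtain ⟨π, hπ⟩ := (Cfsg.Agent.S2116.result 7 (Or.inr rfl)).2 _ σ hst
  have hcard : Nat.card σ.ker = Nat.card (center G) :=
    Nat.card_congr
      { toFun := fun x => ⟨i x, (hker x).1 x.2⟩
        invFun := fun z => ⟨i.symm z, (hker _).2 (by simp)⟩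
        left_inv := fun x => Subtype.ext (i.symm_apply_apply x)
        right_inv := fun z => Subtype.ext (i.apply_symm_apply z) }
  have h6 : Nat.card (center G) ∣ 6 := by
    rw [← hcard]
    have h := card_dvd_of_surjective π hπ
    simpa [Nat.card_eq_fintype_card, ZMod.card] using h
  have h6' := Nat.le_of_dvd (by norm_num) h6
  obtain ⟨j, hj⟩ := hodd
  interval_cases hn : Nat.card (center G) <;> omega

/-- The case in which the commutator is not central. -/
theorem noncentral (hperf : commutator G = ⊤) [IsSimpleGroup (G ⧸ center G)] (P : Sylow 2 G)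
    (hP : Hyp (P : Subgroup G)) {c : G} (hc : c ∈ cen (P : Subgroup G)) (hcc : c * c = 1)
    (hc1 : c ≠ 1)
    (hcomm : ∀ x ∈ (P : Subgroup G), ∀ y ∈ (P : Subgroup G), x * y ≠ y * x →
      x * y * x⁻¹ * y⁻¹ = c) (hcen : c ∉ center G) :
    Nat.card (P : Subgroup G) = 8 ∧ Odd (Nat.card (center G)) ∧
      Nonempty ((P.mapSurjective (QuotientGroup.mk'_surjective (center G)) :
        Sylow 2 (G ⧸ center G)) ≃* DihedralGroup 4) := by
  haveI : Fact (Nat.Prime 2) := ⟨Nat.prime_two⟩
  have hO : Cfsg.oddCore G ≤ center G := by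
    haveI : (Cfsg.oddCore G).Characteristic := PLocal.pPrimeCoreCharacteristic 2 G
    refine (normal_le_center hperf _).resolve_right fun h => ?_
    have hodd := CfsgLib.Inv54.odd_card_oddCore (G := G)
    rw [h, card_top] at hodd
    exact hodd.not_two_dvd_nat
      ((orderOf_eq_prime (by rw [pow_two, hcc]) hc1) ▸ orderOf_dvd_natCard c)
  obtain ⟨d, hdP, hdc, hd⟩ : ∃ d ∈ (P : Subgroup G), d ≠ c ∧ IsConj c d := by
    by_contra hno
    push Not at hno
    obtain ⟨N, hN, hNodd, hNc⟩ := Cfsg.Agent.S0215.result P c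
      (orderOf_eq_prime (by rw [pow_two, hcc]) hc1) hc.1 fun g hg => by
        by_contra hne
        exact hno _ hg hne (isConj_iff.2 ⟨g, rfl⟩)
    refine hcen (mem_center_of_commutator hperf fun g => ?_)
    rcases normal_le_center hperf N with h | h
    · exact h (hNc g)
    · rw [h, card_top] at hNodd
      exact absurd ((orderOf_eq_prime (by rw [pow_two, hcc]) hc1) ▸ orderOf_dvd_natCard c)
        hNodd.not_two_dvd_nat
  have k : Ctx P c d := ⟨hP, hc, hcc, hc1, hcomm, hdP, hdc, hd⟩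
  obtain ⟨D, E, e, hD, hE, hEcen, hDE, hsup, hcD, hdD, heD, hce, hde, hDcen⟩ := k.split hperf
  have hcomm' : ∀ a ∈ D, ∀ b ∈ E, a * b = b * a := fun a ha b hb =>
    ((mem_cen.1 (hEcen hb)).2 a (hD.1 ha)).symm
  have hprod := ProductFusion.commutator_le_oddCore P hD hE hcomm' hDE
  have htop : normalClosure (D : Set G) = ⊤ :=
    (normal_le_center hperf _).resolve_left fun h => hcen (h (subset_normalClosure hcD))
  have hEz : ∀ r ∈ E, r ∈ center G := by
    intro r hr
    refine mem_center_of_commutator hperf fun g => ?_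
    have h1 : ⁅g, r⁆ ∈ center G := hO (hprod (commutator_mem_commutator (htop ▸ mem_top g)
      (subset_normalClosure hr)))
    have h2 : r * g * r⁻¹ * g⁻¹ = ⁅g, r⁆⁻¹ := by rw [commutatorElement_def]; group
    rw [h2]
    exact inv_mem h1
  have hPD : (P : Subgroup G) ≤ D := by
    refine le_of_fusion P hperf D fun x hx g hgx => ?_
    have hx' : x ∈ ((E ⊔ D : Subgroup G) : Set G) := by rw [sup_comm, hsup]; exact hx
    rw [coe_mul_of_left_le_normalizer_right _ _ (fun r hr =>
      mem_normalizer_iff_conj.2 fun y hy => by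
        rw [← mem_center_iff.1 (hEz r hr) y, mul_inv_cancel_right]; exact hy)] at hx'
    obtain ⟨r, hr, δ, hδ, rfl⟩ := hx'
    have e1 : g * (r * δ) * g⁻¹ = r * (g * δ * g⁻¹) := by
      rw [← mul_assoc, mem_center_iff.1 (hEz r hr) g]; group
    rw [e1] at hgx
    have h2 : g * δ * g⁻¹ ∈ (P : Subgroup G) := by
      simpa using (P : Subgroup G).mul_mem ((P : Subgroup G).inv_mem (hEcen hr).1) hgx
    show (r * δ)⁻¹ * (g * (r * δ) * g⁻¹) ∈ D
    rw [e1]
    simpa [mul_assoc] using mul_mem (inv_mem hδ) (hD.2 δ hδ g h2)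
  have hcen2 : cen (P : Subgroup G) = zpowers c := by
    refine le_antisymm (fun x hx => (mem_zpowers_two hcc).2 (hDcen x (hPD hx.1) hx))
      (zpowers_le.2 hc)
  have hcard : Nat.card (P : Subgroup G) = 8 := by
    rw [← card_mul_index (center (P : Subgroup G)), hP.index, card_center_eq, hcen2, Nat.card_zpowers,
      orderOf_eq_prime (by rw [pow_two, hcc]) hc1]
  have hodd : Odd (Nat.card (center G)) := by
    rw [Nat.odd_iff, ← Nat.two_dvd_ne_zero]
    intro h2
    obtain ⟨z, hz⟩ := exists_prime_orderOf_dvd_card' (G := center G) 2 h2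
    have hz2 : (z : G) ^ 2 ^ 1 = 1 := by
      rw [pow_one, ← hz, ← Subgroup.coe_pow, pow_orderOf_eq_one]; rfl
    have hzP := mem_of_central_two P z.2 ⟨1, hz2⟩
    rcases hDcen z (hPD hzP) (mem_cen.2 ⟨hzP, fun y _ => (mem_center_iff.1 z.2 y).symm⟩) with h | h
    · have : z = 1 := Subtype.ext h
      rw [this, orderOf_one] at hz; omega
    · exact hcen (h ▸ z.2)
  refine ⟨hcard, hodd, ?_⟩
  set π := QuotientGroup.mk' (center G)
  have hinj : ∀ x ∈ (P : Subgroup G), π x = 1 → x = 1 := by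
    intro x hx h
    rw [← MonoidHom.mem_ker, QuotientGroup.ker_mk'] at h
    obtain ⟨j, hj⟩ := P.isPGroup' ⟨x, hx⟩
    have hdvd : orderOf x ∣ Nat.card (center G) := Subgroup.orderOf_dvd_natCard _ h
    have h2 : orderOf x ∣ 2 ^ j := orderOf_dvd_of_pow_eq_one (congrArg Subtype.val hj)
    have := Nat.dvd_gcd h2 hdvd
    rw [((Nat.coprime_two_left.2 hodd).pow_left j).gcd_eq_one, Nat.dvd_one,
      orderOf_eq_one_iff] at this
    exact this
  have hi : Function.Injective (π.domRestrict (P : Subgroup G)) :=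
    (injective_iff_map_eq_one _).2 fun x hx => Subtype.ext (hinj x x.2 hx)
  obtain ⟨f⟩ : Nonempty ((P : Subgroup G) ≃*
      (P.mapSurjective (QuotientGroup.mk'_surjective (center G)) : Sylow 2 (G ⧸ center G))) :=
    ⟨(MonoidHom.ofInjective hi).trans (MulEquiv.subgroupCongr (by
      rw [MonoidHom.domRestrict_range]; rfl))⟩
  set r := d * e with hr
  have hd2 := conj_sq_one hcc hd
  have he2 := conj_sq_one hcc hce
  have hdi : d⁻¹ = d := inv_eq_of_mul_eq_one_left hd2
  have hei : e⁻¹ = e := inv_eq_of_mul_eq_one_left he2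
  have hrr : r * r = c := by
    have h := hcomm d hdP e (hD.1 heD) hde
    rw [hdi, hei] at h
    rw [← h, hr]; group
  have hord : orderOf r = 2 ^ (1 + 1) := orderOf_eq_prime_pow
    (by rw [pow_one, pow_two, hrr]; exact hc1)
    (by rw [show 2 ^ (1 + 1) = 2 * 2 from rfl, pow_mul, pow_two, pow_two, hrr, hcc])
  have hrP : r ∈ (P : Subgroup G) := mul_mem hdP (hD.1 heD)
  obtain ⟨g⟩ := TwoGroups.nonempty_equiv_dihedral (H := (P : Subgroup G)) (a := r) (b := d)
    (m := 4) hrP hdP (by rw [hord]; rfl) hd2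
    (by rw [hr, mul_inv_rev, hdi, hei, ← mul_assoc, hd2, one_mul])
    (fun h => hde (by
      obtain ⟨i, hi⟩ := mem_zpowers_iff.1 h
      have hcr : d * r = r * d := by rw [← hi]; exact ((Commute.refl r).zpow_left i).eq
      rw [hr, ← mul_assoc, hd2, one_mul] at hcr
      calc d * e = d * (d * e * d) := by rw [← hcr]
        _ = e * d := by rw [← mul_assoc, ← mul_assoc, hd2, one_mul]))
    (by rw [hcard])
  exact ⟨f.symm.trans g⟩

/-- The case in which the commutator is central. -/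
theorem central (hperf : commutator G = ⊤) [IsSimpleGroup (G ⧸ center G)]
    (P : Sylow 2 G)
    (hP : Hyp (P : Subgroup G)) {c : G} (hc : c ∈ cen (P : Subgroup G)) (hcc : c * c = 1)
    (hc1 : c ≠ 1)
    (hcomm : ∀ x ∈ (P : Subgroup G), ∀ y ∈ (P : Subgroup G), x * y ≠ y * x →
      x * y * x⁻¹ * y⁻¹ = c) (hcen : c ∈ center G) :
    Nat.card (P : Subgroup G) = 8 ∧
      Nonempty ((P.mapSurjective (QuotientGroup.mk'_surjective (center G)) :
        Sylow 2 (G ⧸ center G)) ≃* DihedralGroup 2) := by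
  haveI : Fact (Nat.Prime 2) := ⟨Nat.prime_two⟩
  set T := G ⧸ center G
  set π := QuotientGroup.mk' (center G) with hπ
  set Q : Sylow 2 T := P.mapSurjective (QuotientGroup.mk'_surjective (center G)) with hQ
  have hmemQ : ∀ {x : T}, x ∈ (Q : Subgroup T) ↔ ∃ p ∈ (P : Subgroup G), π p = x := Iff.rfl
  have hperfT : commutator T = ⊤ := by
    have h := congrArg (Subgroup.map π) hperf
    rw [_root_.commutator_def, map_commutator, ← MonoidHom.range_eq_map,
      MonoidHom.range_eq_top.2 (QuotientGroup.mk'_surjective _)] at h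
    exact h
  have hker : ∀ {a b : G}, π a = π b ↔ a⁻¹ * b ∈ center G := fun {a b} => QuotientGroup.eq
  have hPz : ∀ {z : G}, z ∈ (P : Subgroup G) → z ∈ center G → z ∈ cen (P : Subgroup G) :=
    fun hzP hz => mem_cen.2 ⟨hzP, fun y _ => (mem_center_iff.1 hz y).symm⟩
  have hQc : ∀ x ∈ (Q : Subgroup T), ∀ y ∈ (Q : Subgroup T), x * y = y * x := by
    intro x hx y hy
    obtain ⟨p, hp, rfl⟩ := hmemQ.1 hx
    obtain ⟨q, hq, rfl⟩ := hmemQ.1 hy
    rw [← map_mul, ← map_mul, hker]
    by_cases h : p * q = q * p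
    · rw [h, inv_mul_cancel]; exact one_mem _
    · have h' := hcomm q hq p hp fun h' => h h'.symm
      rw [show (p * q)⁻¹ * (q * p) = q⁻¹ * p⁻¹ * (q * p * q⁻¹ * p⁻¹) * (p * q) by group, h',
        mul_assoc, ← mem_center_iff.1 hcen (p * q)]
      have : q⁻¹ * p⁻¹ * (p * q * c) = c := by group
      rw [this]; exact hcen
  letI : CommGroup (Q : Subgroup T) :=
    { (inferInstance : Group (Q : Subgroup T)) with
      mul_comm := fun a b => Subtype.ext (hQc a a.2 b b.2) }
  set Zb := (cen (P : Subgroup G)).map π with hZb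
  have hZmem : ∀ {p : G}, p ∈ (P : Subgroup G) → (π p ∈ Zb ↔ p ∈ cen (P : Subgroup G)) := by
    intro p hp
    refine ⟨?_, fun h => mem_map_of_mem _ h⟩
    rintro ⟨z, hz, he⟩
    have hd := hPz (mul_mem (inv_mem hz.1) hp) (hker.1 he)
    simpa using mul_mem hz hd
  -- `N(P)` covers `N(Q)`
  have hNlift : ∀ n ∈ Subgroup.normalizer ((Q : Subgroup T) : Set T),
      ∃ g ∈ Subgroup.normalizer ((P : Subgroup G) : Set G), π g = n := by
    intro n hn
    obtain ⟨g, rfl⟩ := QuotientGroup.mk'_surjective (center G) n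
    refine ⟨g, mem_normalizer_iff_conj.2 fun x hx => ?_, rfl⟩
    obtain ⟨y, hy, he⟩ := hmemQ.1 (mem_normalizer_iff_conj.1 hn (π x) (hmemQ.2 ⟨x, hx, rfl⟩))
    rw [← map_inv, ← map_mul, ← map_mul, hker] at he
    obtain ⟨i, hi⟩ := P.isPGroup' ⟨x, hx⟩
    obtain ⟨j, hj⟩ := P.isPGroup' ⟨y, hy⟩
    have hi' : x ^ 2 ^ i = 1 := congrArg Subtype.val hi
    have hj' : y ^ 2 ^ j = 1 := congrArg Subtype.val hj
    have hco : Commute y (y⁻¹ * (g * x * g⁻¹)) := mem_center_iff.1 he y
    have hgx : (g * x * g⁻¹) ^ 2 ^ i = 1 := by rw [conj_pow, hi', mul_one, mul_inv_cancel]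
    have hz2 : (y⁻¹ * (g * x * g⁻¹)) ^ 2 ^ (i + j) = 1 := by
      have h1 : (y * (y⁻¹ * (g * x * g⁻¹))) ^ 2 ^ (i + j) = 1 := by
        rw [mul_inv_cancel_left, pow_add, pow_mul, hgx, one_pow]
      rw [hco.mul_pow, show y ^ 2 ^ (i + j) = 1 by
        rw [add_comm, pow_add, pow_mul, hj', one_pow], one_mul] at h1
      exact h1
    simpa using mul_mem hy (mem_of_central_two P he ⟨_, hz2⟩)
  set ρ := Subgroup.normalizerMonoidHom (Q : Subgroup T)
  have hρ : ∀ (n : Subgroup.normalizer ((Q : Subgroup T) : Set T)) (a : (Q : Subgroup T)),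
      ((ρ n a : (Q : Subgroup T)) : T) = (n : T) * a * (n : T)⁻¹ := fun n a => rfl
  let X : Subgroup (MulAut (Q : Subgroup T)) := ρ.range
  have hX : Odd (Nat.card X) := by
    refine Nat.odd_iff.2 (Nat.two_dvd_ne_zero.1 fun h2 => Q.not_dvd_index ?_)
    have hle : ((Q : Subgroup T).subgroupOf (Subgroup.normalizer ((Q : Subgroup T) : Set T))) ≤
        ρ.ker := fun n hn => by
      rw [MonoidHom.mem_ker]
      ext a
      rw [hρ, MulAut.one_apply, hQc (n : T) hn _ a.2, mul_inv_cancel_right]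
    have h3 : Nat.card X ∣ (Q : Subgroup T).relIndex
        (Subgroup.normalizer ((Q : Subgroup T) : Set T)) := by
      show Nat.card ρ.range ∣ _
      rw [← Subgroup.index_ker]
      exact Subgroup.index_dvd_of_le hle
    exact (h2.trans h3).trans (Subgroup.relIndex_dvd_index_of_le Subgroup.le_normalizer)
  let Z : Subgroup (Q : Subgroup T) := Zb.subgroupOf (Q : Subgroup T)
  have hZ : ∀ x ∈ X, ∀ a ∈ Z, x a ∈ Z := by
    rintro _ ⟨n, rfl⟩ a ha
    obtain ⟨z, hz, he⟩ := ha
    obtain ⟨g, hg, hgn⟩ := hNlift n n.2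
    show ((ρ n a : (Q : Subgroup T)) : T) ∈ Zb
    rw [hρ, ← show π z = (a : T) from he, ← hgn, ← map_inv, ← map_mul, ← map_mul,
      hZmem (mem_normalizer_iff_conj.1 hg z hz.1)]
    refine mem_cen.2 ⟨mem_normalizer_iff_conj.1 hg z hz.1, fun w hw => ?_⟩
    have h1 := (mem_cen.1 hz).2 _ (mem_normalizer_iff_conj.1 (inv_mem hg) w hw)
    rw [inv_inv] at h1
    calc g * z * g⁻¹ * w = g * (z * (g⁻¹ * w * g)) * g⁻¹ := by group
      _ = g * ((g⁻¹ * w * g) * z) * g⁻¹ := by rw [h1]
      _ = w * (g * z * g⁻¹) := by group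
  have hthree : ∀ a b w : (Q : Subgroup T), a ∉ Z → b ∉ Z → a⁻¹ * b ∉ Z → w ∉ Z →
      a⁻¹ * w ∈ Z ∨ b⁻¹ * w ∈ Z ∨ (a * b)⁻¹ * w ∈ Z := by
    intro a b w ha hb hab hw
    simp only [Z, mem_subgroupOf, coe_mul, coe_inv] at ha hb hab hw ⊢
    obtain ⟨p, hp, hpa⟩ := hmemQ.1 a.2
    obtain ⟨q, hq, hqb⟩ := hmemQ.1 b.2
    obtain ⟨r, hr, hrw⟩ := hmemQ.1 w.2
    rw [← hpa, hZmem hp] at ha
    rw [← hqb, hZmem hq] at hb
    rw [← hpa, ← hqb, ← map_inv, ← map_mul, hZmem (mul_mem (inv_mem hp) hq)] at hab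
    rw [← hrw, hZmem hr] at hw
    rw [← hpa, ← hqb, ← hrw, ← map_mul π p q, ← map_inv, ← map_inv, ← map_inv, ← map_mul,
      ← map_mul, ← map_mul, hZmem (mul_mem (inv_mem hp) hr), hZmem (mul_mem (inv_mem hq) hr),
      hZmem (mul_mem (inv_mem (mul_mem hp hq)) hr)]
    exact three hP hp hq hr ha hb hab hw
  have hburn : ∀ {x g : T}, x ∈ (Q : Subgroup T) → g * x * g⁻¹ ∈ (Q : Subgroup T) →
      ∃ n ∈ Subgroup.normalizer ((Q : Subgroup T) : Set T), g * x * g⁻¹ = n * x * n⁻¹ := by
    intro x g hx hgx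
    haveI : IsMulCommutative (Q : Subgroup T) := ⟨⟨fun a b => Subtype.ext (hQc a a.2 b b.2)⟩⟩
    obtain ⟨n, hn, he⟩ := Q.conj_eq_normalizer_conj_of_mem x g⁻¹ hx (by rwa [inv_inv])
    exact ⟨n⁻¹, inv_mem hn, by rw [inv_inv] at he; rw [he, inv_inv]⟩
  have hmove : ∃ x ∈ X, ∃ a, a⁻¹ * x a ∉ Z := by
    by_contra hno
    push Not at hno
    have hle : (Q : Subgroup T) ≤ Zb := le_of_fusion Q hperfT Zb fun x hx g hgx => by
      obtain ⟨n, hn, he⟩ := hburn hx hgx
      rw [he]
      exact hno _ ⟨⟨n, hn⟩, rfl⟩ ⟨x, hx⟩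
    obtain ⟨a, ha, hac⟩ := exists_outside hP
    exact hac ((hZmem ha).1 (hle (hmemQ.2 ⟨a, ha, rfl⟩)))
  have hind : ∀ B C : Subgroup (Q : Subgroup T), (∀ x ∈ X, ∀ b ∈ B, x b ∈ B) →
      (∀ x ∈ X, ∀ b ∈ C, x b ∈ C) → B ⊓ C = ⊥ → B ⊔ C = ⊤ → B = ⊥ ∨ C = ⊥ := by
    intro B C hB hC hBC _
    set S₁ := B.map (Q : Subgroup T).subtype with hS₁
    set S₂ := C.map (Q : Subgroup T).subtype with hS₂
    have hsc : ∀ D : Subgroup (Q : Subgroup T), (∀ x ∈ X, ∀ b ∈ D, x b ∈ D) →
        Cfsg.IsStronglyClosed (D.map (Q : Subgroup T).subtype) (Q : Subgroup T) := by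
      refine fun D hD => ⟨map_subtype_le _, ?_⟩
      rintro _ ⟨b, hb, rfl⟩ g hg
      obtain ⟨n, hn, he⟩ := hburn b.2 hg
      exact ⟨_, hD _ ⟨⟨n, hn⟩, rfl⟩ b hb, he.symm⟩
    have hd : S₁ ⊓ S₂ = ⊥ := by
      rw [hS₁, hS₂, ← map_inf _ _ _ (Q : Subgroup T).subtype_injective, hBC, Subgroup.map_bot]
    have hO : Cfsg.oddCore T = ⊥ := by
      haveI : (Cfsg.oddCore T).Characteristic := PLocal.pPrimeCoreCharacteristic 2 T
      refine (IsSimpleGroup.eq_bot_or_eq_top_of_normal _ inferInstance).resolve_right fun h => ?_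
      have hodd := CfsgLib.Inv54.odd_card_oddCore (G := T)
      rw [h, card_top] at hodd
      obtain ⟨a, ha, hac⟩ := exists_outside hP
      have hne : π a ≠ 1 := fun h1 => hac ((hZmem ha).1 (h1 ▸ one_mem _))
      obtain ⟨j, hj⟩ := Q.isPGroup' ⟨π a, hmemQ.2 ⟨a, ha, rfl⟩⟩
      have hdv : orderOf (π a) ∣ 2 ^ j := orderOf_dvd_of_pow_eq_one (congrArg Subtype.val hj)
      have := Nat.dvd_gcd hdv (orderOf_dvd_natCard (π a))
      rw [((Nat.coprime_two_left.2 hodd).pow_left j).gcd_eq_one, Nat.dvd_one,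
        orderOf_eq_one_iff] at this
      exact hne this
    have hcl := ProductFusion.closures_commute hO Q (hsc B hB) (hsc C hC)
      (fun a ha b hb => hQc a (map_subtype_le _ ha) b (map_subtype_le _ hb)) hd
    by_cases hB0 : B = ⊥
    · exact Or.inl hB0
    refine Or.inr (eq_bot_iff.2 fun b hb => mem_bot.2 ?_)
    have htop : normalClosure (S₁ : Set T) = ⊤ :=
      (IsSimpleGroup.eq_bot_or_eq_top_of_normal _ inferInstance).resolve_left fun h => hB0 (by
        rw [eq_bot_iff] at h ⊢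
        intro a ha
        exact mem_bot.2 (Subtype.ext (mem_bot.1 (h (subset_normalClosure ⟨a, ha, rfl⟩)))))
    have hbZ : (b : T) ∈ center T := mem_center_iff.2 fun g =>
      hcl g (htop ▸ mem_top g) b (subset_normalClosure ⟨b, hb, rfl⟩)
    have hzT : center T = ⊥ := (IsSimpleGroup.eq_bot_or_eq_top_of_normal _ inferInstance).resolve_right
      fun h => by
        have h0 : commutator T = ⊥ := by
          rw [eq_bot_iff, _root_.commutator_def, commutator_le]
          intro a _ b _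
          rw [mem_bot, commutatorElement_eq_one_iff_mul_comm]
          exact mem_center_iff.1 (h ▸ mem_top b) a
        exact bot_ne_top (h0.symm.trans hperfT)
    exact Subtype.ext (mem_bot.1 (hzT ▸ hbZ))
  obtain ⟨k, hk, ⟨e⟩⟩ := exists_homocyclic Q.isPGroup' X hX Z hZ hthree hmove hind
  have hk1 : k = 1 := by
    by_contra hne
    have hO' : ∀ N : Subgroup T, N.Normal → Odd (Nat.card N) → N = ⊥ := fun N hN hodd =>
      (IsSimpleGroup.eq_bot_or_eq_top_of_normal N hN).resolve_right fun h => by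
        rw [h, card_top] at hodd
        refine hodd.not_two_dvd_nat (dvd_trans ?_ (Q : Subgroup T).card_subgroup_dvd_card)
        rw [Nat.card_congr e.toEquiv]
        rw [Nat.card_congr Multiplicative.toAdd, Nat.card_prod, Nat.card_zmod]
        exact (dvd_pow_self 2 (show k ≠ 0 by omega)).mul_right _
    have hn := (Cfsg.Agent.S0949.result Q k (by omega) e hO').1
    rcases IsSimpleGroup.eq_bot_or_eq_top_of_normal _ hn with h | h
    · obtain ⟨a, ha, hac⟩ := exists_outside hP
      have h1 : π a ∈ (Q : Subgroup T) := hmemQ.2 ⟨a, ha, rfl⟩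
      rw [h, mem_bot] at h1
      exact hac ((hZmem ha).1 (h1 ▸ one_mem _))
    · have h0 : commutator T = ⊥ := by
        rw [eq_bot_iff, _root_.commutator_def, commutator_le]
        intro a _ b _
        rw [mem_bot, commutatorElement_eq_one_iff_mul_comm]
        exact hQc a (h ▸ mem_top a) b (h ▸ mem_top b)
      exact bot_ne_top (h0.symm.trans hperfT)
  subst hk1
  refine ⟨?_, ?_⟩
  · have hres : (π.domRestrict (P : Subgroup G)).ker = (zpowers c).subgroupOf (P : Subgroup G) := by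
      ext x
      rw [MonoidHom.mem_ker, MonoidHom.domRestrict_apply, ← MonoidHom.mem_ker,
        QuotientGroup.ker_mk', mem_subgroupOf]
      exact ⟨fun h => central_mem P hperf hcomm x.2 h, fun h => zpowers_le.2 hcen h⟩
    have h1 := card_mul_index (π.domRestrict (P : Subgroup G)).ker
    rw [Subgroup.index_ker, MonoidHom.domRestrict_range, hres,
      Nat.card_congr (subgroupOfEquivOfLe (zpowers_le.2 hc.1)).toEquiv, Nat.card_zpowers,
      orderOf_eq_prime (by rw [pow_two, hcc]) hc1] at h1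
    rw [← h1]
    show 2 * Nat.card (Q : Subgroup T) = 8
    rw [Nat.card_congr e.toEquiv]
    simp [Nat.card_eq_fintype_card]
  · obtain ⟨f⟩ := IsKleinFour.nonempty_mulEquiv (G₁ := Multiplicative (ZMod 2 × ZMod 2))
      (G₂ := DihedralGroup 2)
    exact ⟨(show (Q : Subgroup T) ≃* Multiplicative (ZMod 2 × ZMod 2) from e).trans f⟩

/-- The main theorem, from the Gorenstein–Walter hypothesis. -/
theorem main (hGW : ∀ m, GW.SimpleHyp.{u} m) (hq : Cfsg.IsQuasisimple G) (P : Sylow 2 G)
    (hna : ¬ IsMulCommutative (P : Subgroup G))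
    (hZ : (center (P : Subgroup G)).index = 4) :
    Nat.card (P : Subgroup G) = 8 ∧
      (Nonempty (G ≃* alternatingGroup (Fin 7)) ∨
       (Nat.card (center G) = 3 ∧ Nonempty (G ⧸ center G ≃* alternatingGroup (Fin 7))) ∨
       ∃ (F : Type) (_ : Field F) (_ : Fintype F), Odd (Fintype.card F) ∧
         Nonempty (G ⧸ center G ≃* Matrix.ProjectiveSpecialLinearGroup (Fin 2) F)) := by
  haveI : Fact (Nat.Prime 2) := ⟨Nat.prime_two⟩
  haveI := hq.2
  have hperf : commutator G = ⊤ := hq.1.commutator_eq_top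
  have hP : Hyp (P : Subgroup G) := ⟨hZ, by
    by_contra hno
    push Not at hno
    exact hna ⟨⟨fun a b => Subtype.ext (hno a a.2 b b.2)⟩⟩⟩
  obtain ⟨c, hc, hcc, hc1, hcomm⟩ := exists_comm hP
  by_cases hcen : c ∈ center G
  · obtain ⟨h8, he⟩ := central hperf P hP hc hcc hc1 hcomm hcen
    refine ⟨h8, ?_⟩
    rcases hGW (Nat.card (G ⧸ center G)) (G ⧸ center G) inferInstance le_rfl _ 2 le_rfl he with
      ⟨F, iF, iT, hodd, -, hf⟩ | ⟨⟨f⟩⟩
    · exact Or.inr (Or.inr ⟨F, iF, iT, hodd, hf⟩)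
    · exfalso
      let S := P.mapSurjective (QuotientGroup.mk'_surjective (center G))
      have hcard : Nat.card (S : Subgroup (G ⧸ center G)) = 4 := by
        rw [Nat.card_congr he.some.toEquiv, DihedralGroup.nat_card]
      have h8' : 8 ∣ Nat.card (G ⧸ center G) := by
        rw [Nat.card_congr f.toEquiv, nat_card_alternatingGroup, Nat.card_fin]
        decide
      have h2 : ¬ 2 ∣ (S : Subgroup (G ⧸ center G)).index := S.not_dvd_index
      rw [← card_mul_index (S : Subgroup (G ⧸ center G)), hcard] at h8'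
      exact h2 (Nat.dvd_of_mul_dvd_mul_left (by norm_num) (show 4 * 2 ∣ 4 * _ from h8'))
  · obtain ⟨h8, hodd, he⟩ := noncentral hperf P hP hc hcc hc1 hcomm hcen
    refine ⟨h8, ?_⟩
    rcases hGW (Nat.card (G ⧸ center G)) (G ⧸ center G) inferInstance le_rfl _ 4 (by norm_num) he
      with ⟨F, iF, iT, hoddF, -, hf⟩ | ⟨⟨f⟩⟩
    · exact Or.inr (Or.inr ⟨F, iF, iT, hoddF, hf⟩)
    · rcases card_center_alt_seven hperf f hodd with h1 | h3
      · refine Or.inl ⟨?_⟩
        have hb : center G = ⊥ := card_eq_one.1 h1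
        exact ((QuotientGroup.quotientMulEquivOfEq hb).trans QuotientGroup.quotientBot).symm.trans f
      · exact Or.inr (Or.inl ⟨h3, ⟨f⟩⟩)

end CfsgLib.IndexFourCentre
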