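import Cfsg.Agent.ProductFusion.Theorem
import Mathlib.GroupTheory.SpecificGroups.KleinFour
import Mathlib.GroupTheory.SpecificGroups.Cyclic
import Mathlib.GroupTheory.Exponent

/-!
# Two-groups with centre of index four, as subgroups

Three cosets of the centre, each the outside part of a maximal abelian subgroup; one non-trivial
commutator.
-/

set_option autoImplicit false
set_option linter.style.haveILetI false
set_option linter.unusedSectionVars false

open Subgroup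

namespace CfsgLib.IndexFourCentre

universe u

variable {G : Type u} [Group G] {P : Subgroup G}

/-- The centre of `P` as a subgroup of `G`. -/
def cen (P : Subgroup G) : Subgroup G := P ⊓ centralizer (P : Set G)

/-- The centralizer of `x` in `P`. -/
def acen (P : Subgroup G) (x : G) : Subgroup G := P ⊓ centralizer ({x} : Set G)

theorem mem_cen {z : G} : z ∈ cen P ↔ z ∈ P ∧ ∀ y ∈ P, z * y = y * z :=
  ⟨fun h => ⟨h.1, fun y hy => (mem_centralizer_iff.1 h.2 y hy).symm⟩,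
    fun h => ⟨h.1, mem_centralizer_iff.2 fun y hy => (h.2 y hy).symm⟩⟩

theorem cen_le (P : Subgroup G) : cen P ≤ P := inf_le_left

theorem mem_acen {x y : G} : y ∈ acen P x ↔ y ∈ P ∧ y * x = x * y :=
  ⟨fun h => ⟨h.1, (mem_centralizer_iff.1 h.2 x rfl).symm⟩,
    fun h => ⟨h.1, mem_centralizer_iff.2 fun z hz => by rw [Set.mem_singleton_iff.1 hz]; exact h.2.symm⟩⟩

theorem acen_le (P : Subgroup G) (x : G) : acen P x ≤ P := inf_le_left

theorem mem_cen_coe {x : P} : (x : G) ∈ cen P ↔ x ∈ center P := by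
  rw [mem_cen, mem_center_iff]
  exact ⟨fun h y => Subtype.ext (h.2 y y.2).symm,
    fun h => ⟨x.2, fun y hy => (congrArg Subtype.val (h ⟨y, hy⟩)).symm⟩⟩

/-- The centre has index four and the group is not abelian. -/
structure Hyp (P : Subgroup G) : Prop where
  index : (center P).index = 4
  nonab : ∃ a ∈ P, ∃ b ∈ P, a * b ≠ b * a

variable (h : Hyp P)
include h

theorem not_cyclic : ¬ IsCyclic (P ⧸ center P) := by
  intro hc
  obtain ⟨a, ha, b, hb, hab⟩ := h.nonab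
  exact hab (congrArg Subtype.val (commutative_of_cyclic_center_quotient
    (QuotientGroup.mk' (center P)) (QuotientGroup.ker_mk' _).le (⟨a, ha⟩ : P) ⟨b, hb⟩))

theorem isKleinFour : IsKleinFour (P ⧸ center P) := by
  have hcard : Nat.card (P ⧸ center P) = 4 := h.index
  haveI : Finite (P ⧸ center P) := Nat.finite_of_card_ne_zero (by omega)
  have hsq : ∀ q : P ⧸ center P, q ^ 2 = 1 := by
    intro q
    have hd : orderOf q ∣ 2 ^ 2 := by rw [show 2 ^ 2 = 4 from rfl, ← hcard]; exact orderOf_dvd_natCard q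
    obtain ⟨k, hk, hq⟩ := (Nat.dvd_prime_pow Nat.prime_two).1 hd
    refine orderOf_dvd_iff_pow_eq_one.1 ?_
    interval_cases k
    · rw [hq]; exact one_dvd _
    · rw [hq]; norm_num
    · exact absurd (isCyclic_of_orderOf_eq_card q (by rw [hq, hcard]; rfl)) (not_cyclic h)
  haveI : Nontrivial (P ⧸ center P) := Finite.one_lt_card_iff_nontrivial.1 (by omega)
  exact ⟨hcard, (Monoid.exponent_eq_prime_iff Nat.prime_two).2 fun q hq =>
    orderOf_eq_prime (hsq q) hq⟩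

theorem sq_mem {x : G} (hx : x ∈ P) : x * x ∈ cen P := by
  haveI := isKleinFour h
  have h1 := IsKleinFour.mul_self (QuotientGroup.mk' (center P) ⟨x, hx⟩)
  rw [← map_mul, ← MonoidHom.mem_ker, QuotientGroup.ker_mk'] at h1
  exact mem_cen_coe.2 h1

theorem mk_eq_iff {x y : P} : QuotientGroup.mk' (center P) x = QuotientGroup.mk' (center P) y ↔
    (x : G)⁻¹ * y ∈ cen P := by
  have : (x : G)⁻¹ * y = ((x⁻¹ * y : P) : G) := rfl
  rw [this, mem_cen_coe]
  exact QuotientGroup.eq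

/-- The three non-trivial cosets. -/
theorem three {x y w : G} (hx : x ∈ P) (hy : y ∈ P) (hw : w ∈ P) (hxc : x ∉ cen P) (hyc : y ∉ cen P)
    (hxy : x⁻¹ * y ∉ cen P) (hwc : w ∉ cen P) :
    x⁻¹ * w ∈ cen P ∨ y⁻¹ * w ∈ cen P ∨ (x * y)⁻¹ * w ∈ cen P := by
  haveI := isKleinFour h
  let π := QuotientGroup.mk' (center P)
  have hne : ∀ {a : G} (ha : a ∈ P), a ∉ cen P → π ⟨a, ha⟩ ≠ 1 := fun ha hac h1 =>
    hac (mem_cen_coe.2 (by rwa [← MonoidHom.mem_ker, QuotientGroup.ker_mk'] at h1))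
  by_cases hwx : π ⟨w, hw⟩ = π ⟨x, hx⟩
  · exact Or.inl ((mk_eq_iff h).1 hwx.symm)
  by_cases hwy : π ⟨w, hw⟩ = π ⟨y, hy⟩
  · exact Or.inr (Or.inl ((mk_eq_iff h).1 hwy.symm))
  refine Or.inr (Or.inr ?_)
  have h3 := IsKleinFour.eq_mul_of_ne_all (hne hx hxc) (hne hy hyc)
    (fun he => hxy ((mk_eq_iff h).1 he)) (hne hw hwc) hwx hwy
  rw [← map_mul] at h3
  exact (mk_eq_iff h).1 h3.symm

/-- Commuting elements outside the centre lie in one coset. -/
theorem coset_of_commute {x y : G} (hx : x ∈ P) (hy : y ∈ P) (hxc : x ∉ cen P) (hyc : y ∉ cen P)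
    (hxy : x * y = y * x) : x⁻¹ * y ∈ cen P := by
  by_contra hne
  refine hxc (mem_cen.2 ⟨hx, fun w hw => ?_⟩)
  have hz : ∀ {u : G}, u⁻¹ * w ∈ cen P → x * u = u * x → x * w = w * x := fun {u} hu hc => by
    have h1 := ((mem_cen.1 hu).2 x hx).symm
    calc x * w = x * u * (u⁻¹ * w) := by group
      _ = u * x * (u⁻¹ * w) := by rw [hc]
      _ = u * ((u⁻¹ * w) * x) := by rw [mul_assoc, h1]
      _ = w * x := by group
  by_cases hwc : w ∈ cen P
  · exact ((mem_cen.1 hwc).2 x hx).symm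
  rcases three h hx hy hw hxc hyc hne hwc with h1 | h1 | h1
  · exact hz h1 rfl
  · exact hz h1 hxy
  · exact hz h1 (by rw [mul_assoc, ← hxy])

omit h in
theorem commute_of_coset {x y : G} (hx : x ∈ P) (hxy : x⁻¹ * y ∈ cen P) : x * y = y * x := by
  have h1 := ((mem_cen.1 hxy).2 x hx).symm
  calc x * y = x * (x * (x⁻¹ * y)) := by group
    _ = x * ((x⁻¹ * y) * x) := by rw [h1]
    _ = y * x := by group

/-- The non-trivial commutator. -/
theorem exists_comm : ∃ c ∈ cen P, c * c = 1 ∧ c ≠ 1 ∧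
    ∀ x ∈ P, ∀ y ∈ P, x * y ≠ y * x → x * y * x⁻¹ * y⁻¹ = c := by
  obtain ⟨a, ha, b, hb, hab⟩ := h.nonab
  haveI := isKleinFour h
  have hcomm : ∀ x ∈ P, ∀ y ∈ P, x * y * x⁻¹ * y⁻¹ ∈ cen P := by
    intro x hx y hy
    have hmem : (⟨x, hx⟩ * ⟨y, hy⟩ * (⟨x, hx⟩ : P)⁻¹ * (⟨y, hy⟩ : P)⁻¹) ∈ center P := by
      rw [← QuotientGroup.ker_mk' (center P), MonoidHom.mem_ker]
      simp only [map_mul, map_inv, IsKleinFour.inv_eq_self]
      generalize QuotientGroup.mk' (center P) (⟨x, hx⟩ : P) = p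
      generalize QuotientGroup.mk' (center P) (⟨y, hy⟩ : P) = q
      rw [mul_assoc (p * q), IsKleinFour.mul_self (p * q)]
    exact mem_cen_coe.2 hmem
  let c := a * b * a⁻¹ * b⁻¹
  have hc : c ∈ cen P := hcomm a ha b hb
  have hmove : ∀ {z u : G}, z ∈ cen P → u ∈ P → u * z = z * u := fun hz hu =>
    ((mem_cen.1 hz).2 _ hu).symm
  have hc2 : c * c = 1 := by
    have h1 := hmove (sq_mem h ha) hb
    have h2 : c * c = a * (c * b) * a⁻¹ * b⁻¹ := by
      rw [← mul_assoc a c b, hmove hc ha]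
      simp only [c]; group
    rw [h2, show a * (c * b) * a⁻¹ * b⁻¹ = a * a * b * (a * a)⁻¹ * b⁻¹ by simp only [c]; group,
      ← h1]
    group
  refine ⟨c, hc, hc2, fun h1 => hab ?_, ?_⟩
  · calc a * b = c * (b * a) := by simp only [c]; group
      _ = b * a := by rw [h1, one_mul]
  -- bimultiplicativity
  have hl : ∀ x ∈ P, ∀ x' ∈ P, ∀ y ∈ P, x * x' * y * (x * x')⁻¹ * y⁻¹ =
      (x' * y * x'⁻¹ * y⁻¹) * (x * y * x⁻¹ * y⁻¹) := by
    intro x hx x' hx' y hy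
    calc x * x' * y * (x * x')⁻¹ * y⁻¹ = x * (x' * y * x'⁻¹ * y⁻¹) * (y * x⁻¹ * y⁻¹) := by group
      _ = (x' * y * x'⁻¹ * y⁻¹) * x * (y * x⁻¹ * y⁻¹) := by rw [hmove (hcomm x' hx' y hy) hx]
      _ = _ := by group
  have hsymm : ∀ x y : G, (x * y * x⁻¹ * y⁻¹)⁻¹ = y * x * y⁻¹ * x⁻¹ := fun x y => by group
  have hK : ∀ {k k' : G}, (k = 1 ∨ k = c) → (k' = 1 ∨ k' = c) → (k * k' = 1 ∨ k * k' = c) := by
    rintro k k' (rfl | rfl) (rfl | rfl) <;> simp [hc2]
  have hKinv : ∀ {k : G}, (k = 1 ∨ k = c) → (k⁻¹ = 1 ∨ k⁻¹ = c) := by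
    rintro k (rfl | rfl)
    · simp
    · exact Or.inr (inv_eq_of_mul_eq_one_left hc2)
  have hzero : ∀ z ∈ cen P, ∀ y ∈ P, z * y * z⁻¹ * y⁻¹ = 1 := fun z hz y hy => by
    rw [(mem_cen.1 hz).2 y hy]; group
  have hac : a ∉ cen P := fun h1 => hab ((mem_cen.1 h1).2 b hb)
  have hbc : b ∉ cen P := fun h1 => hab ((mem_cen.1 h1).2 a ha).symm
  have habc : a⁻¹ * b ∉ cen P := fun h1 => hab (commute_of_coset ha h1)
  have step : ∀ y ∈ P, (a * y * a⁻¹ * y⁻¹ = 1 ∨ a * y * a⁻¹ * y⁻¹ = c) →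
      (b * y * b⁻¹ * y⁻¹ = 1 ∨ b * y * b⁻¹ * y⁻¹ = c) →
      ∀ x ∈ P, x * y * x⁻¹ * y⁻¹ = 1 ∨ x * y * x⁻¹ * y⁻¹ = c := by
    intro y hy hA hB x hx
    have hfin : ∀ u ∈ P, (u * y * u⁻¹ * y⁻¹ = 1 ∨ u * y * u⁻¹ * y⁻¹ = c) → u⁻¹ * x ∈ cen P →
        x * y * x⁻¹ * y⁻¹ = 1 ∨ x * y * x⁻¹ * y⁻¹ = c := by
      intro u hu hu' hux
      have := hl u hu (u⁻¹ * x) (cen_le P hux) y hy
      rw [mul_inv_cancel_left, hzero _ hux y hy, one_mul] at this
      rwa [this]
    by_cases hxc : x ∈ cen P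
    · exact Or.inl (hzero x hxc y hy)
    rcases three h ha hb hx hac hbc habc hxc with h1 | h1 | h1
    · exact hfin a ha hA h1
    · exact hfin b hb hB h1
    · exact hfin _ (mul_mem ha hb) (by rw [hl a ha b hb y hy]; exact hK hB hA) h1
  have hfirst : ∀ x ∈ P, (x * a * x⁻¹ * a⁻¹ = 1 ∨ x * a * x⁻¹ * a⁻¹ = c) ∧
      (x * b * x⁻¹ * b⁻¹ = 1 ∨ x * b * x⁻¹ * b⁻¹ = c) := fun x hx =>
    ⟨step a ha (Or.inl (by group))
        (by rw [← hsymm a b]; exact hKinv (Or.inr rfl)) x hx,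
      step b hb (Or.inr rfl) (Or.inl (by group)) x hx⟩
  intro x hx y hy hne
  refine (step y hy ?_ ?_ x hx).resolve_left fun h1 => hne ?_
  · rw [← hsymm y a]; exact hKinv (hfirst y hy).1
  · rw [← hsymm y b]; exact hKinv (hfirst y hy).2
  · calc x * y = (x * y * x⁻¹ * y⁻¹) * (y * x) := by group
      _ = y * x := by rw [h1, one_mul]

omit h in
theorem cen_le_acen {x : G} (hx : x ∈ P) : cen P ≤ acen P x := fun z hz =>
  mem_acen.2 ⟨hz.1, (mem_cen.1 hz).2 x hx⟩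

theorem mem_acen_iff {x y : G} (hx : x ∈ P) (hxc : x ∉ cen P) :
    y ∈ acen P x ↔ y ∈ P ∧ (y ∈ cen P ∨ x⁻¹ * y ∈ cen P) := by
  refine ⟨fun hy => ⟨hy.1, ?_⟩, fun hy => mem_acen.2 ⟨hy.1, ?_⟩⟩
  · by_cases hyc : y ∈ cen P
    · exact Or.inl hyc
    · exact Or.inr (coset_of_commute h hx hy.1 hxc hyc (mem_acen.1 hy).2.symm)
  · rcases hy.2 with h1 | h1
    · exact (mem_cen.1 h1).2 x hx
    · exact (commute_of_coset hx h1).symm

theorem acen_eq {x y : G} (hx : x ∈ P) (hy : y ∈ acen P x) (hxc : x ∉ cen P) (hyc : y ∉ cen P) :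
    acen P y = acen P x := by
  have hxy : x⁻¹ * y ∈ cen P := ((mem_acen_iff h hx hxc).1 hy).2.resolve_left hyc
  ext w
  rw [mem_acen_iff h hx hxc, mem_acen_iff h hy.1 hyc]
  refine and_congr_right fun hw => or_congr Iff.rfl ⟨fun h1 => ?_, fun h1 => ?_⟩
  · simpa using mul_mem hxy h1
  · simpa [mul_assoc] using mul_mem (inv_mem hxy) h1

theorem acen_comm {x a b : G} (hx : x ∈ P) (hxc : x ∉ cen P) (ha : a ∈ acen P x)
    (hb : b ∈ acen P x) : a * b = b * a := by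
  by_cases hac : a ∈ cen P
  · exact (mem_cen.1 hac).2 b hb.1
  · have := acen_eq h hx ha hxc hac
    exact (mem_acen.1 (this ▸ hb : b ∈ acen P a)).2.symm

theorem card_acen [Finite G] {x : G} (hx : x ∈ P) (hxc : x ∉ cen P) :
    Nat.card (acen P x) = 2 * Nat.card (cen P) := by
  have hset : ((acen P x : Subgroup G) : Set G) =
      (cen P : Set G) ∪ (fun z => x * z) '' (cen P : Set G) := by
    ext y
    simp only [SetLike.mem_coe, mem_acen_iff h hx hxc, Set.mem_union, Set.mem_image]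
    constructor
    · rintro ⟨-, h1 | h1⟩
      · exact Or.inl h1
      · exact Or.inr ⟨_, h1, by group⟩
    · rintro (h1 | ⟨z, hz, rfl⟩)
      · exact ⟨h1.1, Or.inl h1⟩
      · exact ⟨mul_mem hx hz.1, Or.inr (by rwa [inv_mul_cancel_left])⟩
  have hdisj : Disjoint (cen P : Set G) ((fun z => x * z) '' (cen P : Set G)) := by
    rw [Set.disjoint_left]
    rintro y hy ⟨z, hz, rfl⟩
    exact hxc (by simpa using mul_mem hy (inv_mem hz))
  show Nat.card ((acen P x : Subgroup G) : Set G) = 2 * Nat.card (cen P : Set G)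
  rw [Nat.card_coe_set_eq, Nat.card_coe_set_eq, hset, Set.ncard_union_eq hdisj,
    Set.ncard_image_of_injective _ (mul_right_injective x), two_mul]

/-- An abelian subgroup of `P` of the order of `acen P x` is an `acen`, if not central. -/
theorem eq_acen_of_comm [Finite G] {B : Subgroup G} {x b : G} (hx : x ∈ P) (hxc : x ∉ cen P)
    (hBP : B ≤ P) (hcard : Nat.card B = Nat.card (acen P x))
    (hcomm : ∀ u ∈ B, ∀ v ∈ B, u * v = v * u) (hb : b ∈ B) (hbc : b ∉ cen P) :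
    B = acen P b := by
  refine eq_of_le_of_card_ge (fun u hu => mem_acen.2 ⟨hBP hu, hcomm u hu b hb⟩) ?_
  rw [hcard, card_acen h hx hxc, card_acen h (hBP hb) hbc]

theorem exists_outside : ∃ a ∈ P, a ∉ cen P := by
  obtain ⟨a, ha, b, hb, hab⟩ := h.nonab
  exact ⟨a, ha, fun h1 => hab ((mem_cen.1 h1).2 b hb)⟩

theorem exists_other {x : G} (hx : x ∈ P) (hxc : x ∉ cen P) : ∃ u ∈ P, u * x ≠ x * u := by
  by_contra hno
  push Not at hno
  exact hxc (mem_cen.2 ⟨hx, fun y hy => (hno y hy).symm⟩)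

end CfsgLib.IndexFourCentre
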